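import Groth.Agent.GIT36.SSRed.Lift

/-!
A certificate for the affineness of non-vanishing loci of sections of powers of a line bundle.
-/

set_option autoImplicit false
set_option backward.isDefEq.respectTransparency.types false
set_option linter.style.haveILetI false
set_option linter.unusedSectionVars false

universe u

open CategoryTheory CategoryTheory.Limits AlgebraicGeometry Opposite TopologicalSpace
open Groth.Agent.GIT36.Sections

noncomputable section

namespace Groth.Agent.GIT36.BCField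

/-- functions whose non-vanishing locus lies in one of the opens of a family -/
def supp {Z : Scheme.{u}} (P : Set Z.Opens) : Set Γ(Z, ⊤) := {t | ∃ O ∈ P, Z.basicOpen t ≤ O}

/-- a function with affine non-vanishing locus is, up to powers, generated by functions supported in a cover of it -/
theorem mem_radical_span_supp {Z : Scheme.{u}} [CompactSpace Z] [QuasiSeparatedSpace Z] (P : Set Z.Opens)
    (f : Γ(Z, ⊤)) (hf : IsAffineOpen (Z.basicOpen f)) (hcov : ∀ v ∈ Z.basicOpen f, ∃ O ∈ P, v ∈ O) :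
    f ∈ (Ideal.span (supp P)).radical := by
  let D := Z.basicOpen f
  haveI hL : IsLocalization.Away f Γ(Z, D) :=
    isLocalization_basicOpen_of_qcqs isCompact_univ isQuasiSeparated_univ f
  let I := Ideal.span (supp P)
  have hmap : I.map (algebraMap Γ(Z, ⊤) Γ(Z, D)) = ⊤ := by
    rw [← (hf.iSup_basicOpen_eq_self_iff (s := algebraMap Γ(Z, ⊤) Γ(Z, D) '' supp P)).1 ?_]
    · rw [Ideal.map_span]
    refine le_antisymm (iSup_le fun _ => Z.basicOpen_le _) fun v hv => ?_
    obtain ⟨O, hO, hvO⟩ := hcov v hv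
    obtain ⟨h, hhle, hvh⟩ := hf.exists_basicOpen_le (V := O) ⟨v, hvO⟩ hv
    obtain ⟨M, g, hg⟩ : ∃ (M : ℕ) (g : Γ(Z, ⊤)),
        rs (Z.basicOpen_le f) g = rs (Z.basicOpen_le f) f ^ M * h :=
      exists_eq_pow_mul_of_isCompact_of_isQuasiSeparated Z ⊤ isCompact_univ isQuasiSeparated_univ f h
    have hb : Z.basicOpen (f * g) = Z.basicOpen h := by
      rw [Z.basicOpen_mul, ← Scheme.basicOpen_res Z g (homOfLE (Z.basicOpen_le f)).op]
      show Z.basicOpen (rs (Z.basicOpen_le f) g) = _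
      rw [hg, Z.basicOpen_mul, inf_eq_right]
      intro w hw
      have hu : IsUnit (rs (Z.basicOpen_le f) f ^ M) :=
        (RingedSpace.isUnit_res_basicOpen Z.toRingedSpace f).pow M
      rw [Z.basicOpen_of_isUnit hu]
      exact Z.basicOpen_le h hw
    refine Opens.mem_iSup.2 ⟨⟨_, f * g, ⟨O, hO, hb.le.trans hhle⟩, rfl⟩, ?_⟩
    show v ∈ Z.basicOpen (rs (Z.basicOpen_le f) (f * g))
    rw [rs, Scheme.basicOpen_res, hb]
    exact ⟨hv, hvh⟩
  obtain ⟨⟨⟨x, hx⟩, ⟨_, m, rfl⟩⟩, hxm⟩ :=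
    (IsLocalization.mem_map_algebraMap_iff (Submonoid.powers f) Γ(Z, D)).1
      (hmap ▸ Submodule.mem_top (x := (1 : Γ(Z, D))))
  rw [one_mul, IsLocalization.eq_iff_exists (Submonoid.powers f)] at hxm
  obtain ⟨⟨_, l, rfl⟩, hl⟩ := hxm
  refine ⟨l + m, ?_⟩
  have : f ^ (l + m) = f ^ l * x := by rw [pow_add]; exact hl
  rw [this]
  exact I.mul_mem_left _ hx

section Bundle

variable {V X : Scheme.{u}} {π : V ⟶ X} [IsAffineHom π] (A : Atlas π)

/-- preimages of the small affine opens -/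
def small : Set V.Opens :=
  {O | ∃ (W U : X.Opens) (_ : W ≤ U) (_ : IsAffineOpen W), (A.chart U).Nonempty ∧ π ⁻¹ᵁ W = O}

/-- the ideal of functions supported over small affine opens -/
def cert : Ideal Γ(V, ⊤) := Ideal.span (supp (small A))

theorem exists_small (v : V) : ∃ O ∈ small A, v ∈ O := by
  obtain ⟨U, hxU, hne⟩ := A.cover (π v)
  obtain ⟨W, hW, hxW, hWU⟩ := exists_affine_le hxU
  exact ⟨_, ⟨W, U, hWU, hW, hne, rfl⟩, hxW⟩

theorem mem_radical_cert [CompactSpace V] [QuasiSeparatedSpace V] (f : Γ(V, ⊤))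
    (hf : IsAffineOpen (V.basicOpen f)) : f ∈ (cert A).radical :=
  mem_radical_span_supp _ f hf fun v _ => exists_small A v

/-- a point of the fibre where a polynomial with a unit coefficient does not vanish -/
theorem exists_point_eval {U W : X.Opens} {y : Γ(V, π ⁻¹ᵁ U)} (hy : IsCoord π U y) (hWa : IsAffineOpen W)
    (hW : W ≤ U) (p : Polynomial Γ(X, W)) (n : ℕ) {x : X} (hx : x ∈ X.basicOpen (p.coeff n)) :
    ∃ v ∈ V.basicOpen (LineBundle.evalAt π y hW p), π v = x := by
  have hxW : x ∈ W := X.basicOpen_le _ hx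
  let P := hWa.primeIdealOf ⟨x, hxW⟩
  have hPx : hWa.fromSpec P = x := hWa.fromSpec_primeIdealOf ⟨x, hxW⟩
  have hPn : p.coeff n ∉ P.asIdeal := by
    have h : P ∈ hWa.fromSpec ⁻¹ᵁ X.basicOpen (p.coeff n) := by
      show hWa.fromSpec P ∈ X.basicOpen (p.coeff n)
      rw [hPx]
      exact hx
    rw [hWa.fromSpec_preimage_basicOpen] at h
    exact h
  let e := RingEquiv.ofBijective (LineBundle.evalAt π y hW) (hy W hWa hW)
  let Q : PrimeSpectrum (Polynomial Γ(X, W)) := ⟨P.asIdeal.map Polynomial.C, Ideal.isPrime_map_C_of_isPrime (P := P.asIdeal)⟩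
  let Q' : PrimeSpectrum Γ(V, π ⁻¹ᵁ W) := PrimeSpectrum.comap (e.symm : Γ(V, π ⁻¹ᵁ W) →+* Polynomial Γ(X, W)) Q
  have hV : IsAffineOpen (π ⁻¹ᵁ W) := hWa.preimage π
  refine ⟨hV.fromSpec Q', ?_, ?_⟩
  · show Q' ∈ hV.fromSpec ⁻¹ᵁ V.basicOpen _
    rw [hV.fromSpec_preimage_basicOpen]
    show e.symm (e p) ∉ Q.asIdeal
    rw [e.symm_apply_apply]
    exact fun h => hPn (Ideal.mem_map_C_iff.1 h n)
  · have h : (Spec.map (π.app W) ≫ hWa.fromSpec) Q' = (hV.fromSpec ≫ π) Q' := by
      rw [Scheme.Hom.app_eq_appLE, IsAffineOpen.SpecMap_appLE_fromSpec π hWa hV le_rfl]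
    rw [Scheme.Hom.comp_apply, Scheme.Hom.comp_apply] at h
    rw [← h, ← hPx]
    congr 1
    refine PrimeSpectrum.ext (Ideal.ext fun a => ?_)
    show e.symm ((π.app W).hom a) ∈ Q.asIdeal ↔ a ∈ P.asIdeal
    have he : e (Polynomial.C a) = (π.app W).hom a := by
      show LineBundle.evalAt π y hW (Polynomial.C a) = _
      rw [SSRed.evalAt_apply, Polynomial.eval₂_C]
    rw [← he, e.symm_apply_apply]
    refine ⟨fun h => ?_, fun h => Ideal.mem_map_of_mem _ h⟩
    have := Ideal.mem_map_C_iff.1 h 0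
    rwa [Polynomial.coeff_C_zero] at this

/-- a section in the radical of the certificate ideal has affine non-vanishing locus -/
theorem isAffineOpen_of_mem_cert [CompactSpace X]
    (hlin : ∀ (U U' : X.Opens) (y : Γ(V, π ⁻¹ᵁ U)) (y' : Γ(V, π ⁻¹ᵁ U')), y ∈ A.chart U → y' ∈ A.chart U' →
      ∃ c : Γ(X, U ⊓ U'), rs (π.preimage_mono inf_le_right) y' =
        π.app (U ⊓ U') c * rs (π.preimage_mono inf_le_left) y)
    {n : ℕ} {f : Γ(V, ⊤)} (hf : A.Wt n f) (hJ : f ∈ (cert A).radical) {D : X.Opens}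
    (hD : (D : Set X) = nv π f) : IsAffineOpen D := by
  classical
  obtain ⟨N, hN⟩ := hJ
  have hN' : f ^ (N + 1) ∈ cert A := by rw [pow_succ]; exact (cert A).mul_mem_right _ hN
  obtain ⟨m, a, t, hat⟩ := Submodule.mem_span_set'.1 hN'
  choose O hO hbO using fun i => (t i).2
  choose W U hWU hWa hne hpre using hO
  choose y hy using hne
  choose F hF hFc using fun i => SSRed.exists_component A hlin ((N + 1) * n) (a i * (t i).1)
  have hfN : A.Wt ((N + 1) * n) (f ^ (N + 1)) := hf.pow _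
  -- the components add up
  have hsum : f ^ (N + 1) = ∑ i, F i := by
    refine eq_of_locally _ _ fun v _ => ?_
    obtain ⟨U', hxU, y', hy'⟩ := A.cover (π v)
    obtain ⟨W', hW'a, hxW', hW'⟩ := exists_affine_le hxU
    obtain ⟨c, hc⟩ := hfN U' y' hy'
    refine ⟨π ⁻¹ᵁ W', le_top, hxW', ?_⟩
    choose p hp using fun i => (A.coord U' y' hy' W' hW'a hW').2 (rs le_top (a i * (t i).1))
    have hs : Polynomial.C (rs hW' c) * Polynomial.X ^ ((N + 1) * n) = ∑ i, p i := by
      refine (A.coord U' y' hy' W' hW'a hW').1 ?_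
      rw [map_sum]
      simp only [hp]
      rw [← map_sum (V.presheaf.map (homOfLE le_top).op).hom, show ∑ i, a i * (t i).1 = f ^ (N + 1) from hat,
        SSRed.evalAt_apply, Polynomial.eval₂_mul, Polynomial.eval₂_C, Polynomial.eval₂_pow, Polynomial.eval₂_X]
      exact (Atlas.Wt.res hc hW').symm
    have hco : rs hW' c = ∑ i, (p i).coeff ((N + 1) * n) := by
      rw [← Polynomial.finsetSum_coeff, ← hs, Polynomial.coeff_C_mul_X_pow, if_pos rfl]
    rw [Atlas.Wt.res hc hW', hco, map_sum, Finset.sum_mul]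
    refine Eq.trans ?_ (map_sum (V.presheaf.map (homOfLE le_top).op).hom _ _).symm
    exact Finset.sum_congr rfl fun i _ => (hFc i U' W' y' hy' hW'a hW' (p i) (hp i)).symm
  have hDN : (D : Set X) ⊆ nv π (f ^ (N + 1)) := by rw [nv_pow _ (Nat.succ_pos _)]; exact hD.le
  -- loci of the components
  have hloc : ∀ i, nv π (F i) ⊆ (W i : Set X) := by
    intro i x hx
    obtain ⟨U', hxU, y', hy'⟩ := A.cover x
    obtain ⟨W', hW'a, hxW', hW'⟩ := exists_affine_le hxU
    obtain ⟨p, hp⟩ := (A.coord U' y' hy' W' hW'a hW').2 (rs le_top (a i * (t i).1))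
    have h1 := nv_inter_le hy' hW' (hFc i U' W' y' hy' hW'a hW' p hp)
    obtain ⟨v, hv, rfl⟩ := exists_point_eval (A.coord U' y' hy') hW'a hW' p ((N + 1) * n) (h1.subset ⟨hx, hxW'⟩)
    rw [hp, rs, Scheme.basicOpen_res, V.basicOpen_mul] at hv
    have h2 := hbO i hv.2.2
    rw [← hpre i] at h2
    exact h2
  choose r hr using fun i => exists_ratio (A := A) (hf := hfN) (hg := hF i) (D := D) hDN
  have hone : ∑ i, r i = 1 := by
    refine ratio_unique (A := A) (hf := hfN) hDN ?_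
    rw [map_one, _root_.one_mul, map_sum, Finset.sum_mul]
    simp only [show ∀ i, π.app D (r i) * rs le_top (f ^ (N + 1)) = rs le_top (F i) from hr]
    rw [← map_sum (V.presheaf.map (homOfLE le_top).op).hom, ← hsum]
  refine isAffineOpen_of_isAffineOpen_basicOpen D (Set.range r) ?_ ?_
  · rw [Ideal.eq_top_iff_one, ← hone]
    exact Ideal.sum_mem _ fun i _ => Ideal.subset_span ⟨i, rfl⟩
  · rintro _ ⟨i, rfl⟩
    obtain ⟨c, hc⟩ := hfN.mul (hF i) (U i) (y i) (hy i)
    have h1 := nv_inter A (hy i) hc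
    rw [nv_mul hfN (hF i), nv_pow _ (Nat.succ_pos _), ← hD] at h1
    have h2 : X.basicOpen (r i) = X.basicOpen (rs (hWU i) c) := by
      ext1
      rw [IsRatio.basicOpen (A := A) (hf := hfN) (hg := hF i) hDN (hr i), rs, Scheme.basicOpen_res, Opens.coe_inf, ← h1]
      exact Set.ext fun x => ⟨fun h => ⟨hloc i h.2, h, hWU i (hloc i h.2)⟩, fun h => h.2.1⟩
    rw [h2]
    exact (hWa i).basicOpen _

end Bundle

end Groth.Agent.GIT36.BCField
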