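import Groth.Agent.GIT36.Sections.Pull
import Mathlib.AlgebraicGeometry.Morphisms.Flat
import Mathlib.LinearAlgebra.TensorProduct.Basis
import Mathlib.LinearAlgebra.Basis.VectorSpace
import Mathlib.CategoryTheory.Monoidal.Cartesian.Over

/-!
Sections over an open of a scheme over a field, tensored with the functions of an affine scheme.
-/

set_option autoImplicit false
set_option backward.isDefEq.respectTransparency.types false
set_option linter.style.haveILetI false
set_option linter.unusedSectionVars false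

universe u

open CategoryTheory CategoryTheory.Limits MonoidalCategory CartesianMonoidalCategory AlgebraicGeometry
open scoped TensorProduct
open Groth.Agent.GIT36.Sections

noncomputable section

namespace Groth.Agent.GIT36.BCField

variable {k : Type u} [Field k]

/-- constants in the sections over an open -/
def cU (Z : Over (Spec (CommRingCat.of k))) (U : Z.left.Opens) : k →+* Γ(Z.left, U) :=
  ((Scheme.ΓSpecIso (CommRingCat.of k)).inv ≫ Z.hom.appLE ⊤ U le_top).hom

/-- sections over an open as an algebra -/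
@[reducible] def gU (Z : Over (Spec (CommRingCat.of k))) (U : Z.left.Opens) : Algebra k Γ(Z.left, U) :=
  (cU Z U).toAlgebra

attribute [local instance] gU

variable {Z Z' Z'' : Over (Spec (CommRingCat.of k))}

/-- pullback of sections -/
def pullU (h : Z' ⟶ Z) {U : Z.left.Opens} {U' : Z'.left.Opens} (e : U' ≤ h.left ⁻¹ᵁ U) :
    Γ(Z.left, U) →ₐ[k] Γ(Z'.left, U') :=
  { (h.left.appLE U U' e).hom with
    commutes' := fun r => by
      show h.left.appLE U U' e (Z.hom.appLE ⊤ U le_top ((Scheme.ΓSpecIso (CommRingCat.of k)).inv r)) =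
        Z'.hom.appLE ⊤ U' le_top ((Scheme.ΓSpecIso (CommRingCat.of k)).inv r)
      rw [← CommRingCat.comp_apply (Z.hom.appLE ⊤ U le_top), Scheme.Hom.appLE_comp_appLE]
      exact congr($(LineBundle.appLE_congr_hom (Over.w h) _ _).hom _) }

theorem pullU_apply (h : Z' ⟶ Z) {U : Z.left.Opens} {U' : Z'.left.Opens} (e : U' ≤ h.left ⁻¹ᵁ U)
    (s : Γ(Z.left, U)) : pullU h e s = h.left.appLE U U' e s := rfl

theorem pullU_comp {h : Z' ⟶ Z} {g : Z'' ⟶ Z'} {U : Z.left.Opens} {U' : Z'.left.Opens} {U'' : Z''.left.Opens}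
    (e : U' ≤ h.left ⁻¹ᵁ U) (e' : U'' ≤ g.left ⁻¹ᵁ U') (e'' : U'' ≤ (g ≫ h).left ⁻¹ᵁ U) (s : Γ(Z.left, U)) :
    pullU g e' (pullU h e s) = pullU (g ≫ h) e'' s := by
  rw [pullU_apply, pullU_apply, pullU_apply, ← CommRingCat.comp_apply, Scheme.Hom.appLE_comp_appLE]
  rfl

theorem pullU_congr {h h' : Z' ⟶ Z} (he : h = h') {U : Z.left.Opens} {U' : Z'.left.Opens}
    (e : U' ≤ h.left ⁻¹ᵁ U) (e' : U' ≤ h'.left ⁻¹ᵁ U) (s : Γ(Z.left, U)) : pullU h e s = pullU h' e' s := by
  subst he
  rfl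

section Coord

variable {M M' N : Type*} [AddCommGroup M] [Module k M] [AddCommGroup M'] [Module k M'] [AddCommGroup N] [Module k N]
  {κ : Type*} (b : Module.Basis κ k N)

/-- coordinates of a tensor for a basis of the second factor -/
def co : M ⊗[k] N ≃ₗ[k] κ →₀ M :=
  letI := Classical.decEq κ
  TensorProduct.equivFinsuppOfBasisRight b

theorem co_map (L : M →ₗ[k] M') (z : M ⊗[k] N) (l : κ) : co b (L.rTensor N z) l = L (co b z l) := by
  classical
  induction z with
  | zero => simp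
  | tmul a c => simp [co]
  | add x y hx hy => simp [hx, hy]

theorem co_sum (z : M ⊗[k] N) : ∑ l ∈ (co b z).support, co b z l ⊗ₜ[k] b l = z := by
  classical
  conv_rhs => rw [← (co b).symm_apply_apply z]
  rw [co, TensorProduct.equivFinsuppOfBasisRight_symm_apply]
  rfl

theorem co_inj {z z' : M ⊗[k] N} (h : ∀ l, co b z l = co b z' l) : z = z' := (co b).injective (Finsupp.ext h)

end Coord

variable (T : Over (Spec (CommRingCat.of k)))

theorem le_snd_top (U : Z.left.Opens) : (fst Z T).left ⁻¹ᵁ U ≤ (snd Z T).left ⁻¹ᵁ ⊤ := le_top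

variable (Z) in
/-- sections times functions on `T` -/
def β (U : Z.left.Opens) :
    Γ(Z.left, U) ⊗[k] Γ(T.left, ⊤) →ₐ[k] Γ((Z ⊗ T).left, (fst Z T).left ⁻¹ᵁ U) :=
  Algebra.TensorProduct.lift (pullU (fst Z T) le_rfl) (pullU (snd Z T) (le_snd_top T U)) fun _ _ => Commute.all _ _

theorem β_tmul (U : Z.left.Opens) (s : Γ(Z.left, U)) (c : Γ(T.left, ⊤)) :
    β Z T U (s ⊗ₜ c) = pullU (fst Z T) le_rfl s * pullU (snd Z T) (le_snd_top T U) c :=
  Algebra.TensorProduct.lift_tmul _ _ _ _ _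

theorem le_whisker (h : Z' ⟶ Z) {U : Z.left.Opens} {U' : Z'.left.Opens} (e : U' ≤ h.left ⁻¹ᵁ U) :
    (fst Z' T).left ⁻¹ᵁ U' ≤ (h ▷ T).left ⁻¹ᵁ ((fst Z T).left ⁻¹ᵁ U) := by
  intro p hp
  show ((h ▷ T) ≫ fst Z T).left p ∈ U
  rw [whiskerRight_fst]
  exact e hp

theorem β_natural (h : Z' ⟶ Z) {U : Z.left.Opens} {U' : Z'.left.Opens} (e : U' ≤ h.left ⁻¹ᵁ U)
    (z : Γ(Z.left, U) ⊗[k] Γ(T.left, ⊤)) :
    pullU (h ▷ T) (le_whisker T h e) (β Z T U z) = β Z' T U' ((pullU h e).toLinearMap.rTensor _ z) := by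
  induction z with
  | zero => simp only [map_zero]
  | tmul s c =>
    rw [LinearMap.rTensor_tmul, β_tmul, β_tmul, map_mul]
    have e1 : (fst Z' T).left ⁻¹ᵁ U' ≤ (fst Z' T ≫ h).left ⁻¹ᵁ U := fun p hp => e hp
    have e2 : (fst Z' T).left ⁻¹ᵁ U' ≤ (snd Z' T).left ⁻¹ᵁ ⊤ := le_top
    refine congrArg₂ (· * ·) ?_ ?_
    · rw [pullU_comp _ _ (by rw [whiskerRight_fst]; exact e1), pullU_congr (whiskerRight_fst h T) _ e1]
      exact (pullU_comp _ _ e1 s).symm
    · rw [pullU_comp _ _ le_top, pullU_congr (whiskerRight_snd h T) _ e2]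
  | add x y hx hy => simp only [map_add, hx, hy]

/-- flat base change of sections -/
theorem β_bijective [IsAffine T.left] (U : Z.left.Opens) (hc : IsCompact (U : Set Z.left))
    (hq : IsQuasiSeparated (U : Set Z.left)) : Function.Bijective (β Z T U) := by
  haveI : Flat T.hom := inferInstance
  have H := IsPullback.of_hasPullback Z.hom T.hom
  have hiso := isIso_pushoutSection_of_isQuasiSeparated_of_flat_right H
    (US := ⊤) (UT := ⊤) (UX := U) (UY := (fst Z T).left ⁻¹ᵁ U) le_top le_top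
    (by show (pullback.fst Z.hom T.hom) ⁻¹ᵁ U = _ ⊓ _; simp) (isAffineOpen_top _) (isAffineOpen_top _) hc hq
  have hpo := (isIso_pushoutSection_iff H (US := ⊤) (UT := ⊤) (UX := U) (UY := (fst Z T).left ⁻¹ᵁ U) le_top le_top
    (by show (pullback.fst Z.hom T.hom) ⁻¹ᵁ U = _ ⊓ _; simp)).1 hiso
  have h1 : IsPushout (CommRingCat.ofHom (algebraMap k Γ(Z.left, U))) (CommRingCat.ofHom (algebraMap k Γ(T.left, ⊤)))
      (CommRingCat.ofHom (pullU (fst Z T) (le_refl ((fst Z T).left ⁻¹ᵁ U))).toRingHom)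
      (CommRingCat.ofHom (pullU (snd Z T) (le_snd_top T U)).toRingHom) := by
    refine IsPushout.of_iso hpo (Scheme.ΓSpecIso (CommRingCat.of k)) (Iso.refl _) (Iso.refl _) (Iso.refl _) ?_ ?_ ?_ ?_
    · simp only [Iso.refl_hom, Category.comp_id]
      show _ = (Scheme.ΓSpecIso (CommRingCat.of k)).hom ≫ (Scheme.ΓSpecIso (CommRingCat.of k)).inv ≫ _
      rw [Iso.hom_inv_id_assoc]
    · simp only [Iso.refl_hom, Category.comp_id]
      show _ = (Scheme.ΓSpecIso (CommRingCat.of k)).hom ≫ (Scheme.ΓSpecIso (CommRingCat.of k)).inv ≫ _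
      rw [Iso.hom_inv_id_assoc]
    · simp only [Iso.refl_hom, Category.comp_id, Category.id_comp]
      rfl
    · simp only [Iso.refl_hom, Category.comp_id, Category.id_comp]
      rfl
  let Φ := (CommRingCat.isPushout_tensorProduct k Γ(Z.left, U) Γ(T.left, ⊤)).isoIsPushout _ _ h1
  have hl := (CommRingCat.isPushout_tensorProduct k Γ(Z.left, U) Γ(T.left, ⊤)).inl_isoIsPushout_hom _ _ h1
  have hr := (CommRingCat.isPushout_tensorProduct k Γ(Z.left, U) Γ(T.left, ⊤)).inr_isoIsPushout_hom _ _ h1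
  have he : ∀ z : Γ(Z.left, U) ⊗[k] Γ(T.left, ⊤), Φ.hom z = β Z T U z := fun z => by
    induction z with
    | zero => rw [map_zero, map_zero]
    | tmul a b =>
      rw [β_tmul, ← _root_.mul_one a, ← _root_.one_mul b, ← Algebra.TensorProduct.tmul_mul_tmul]
      erw [map_mul]
      rw [_root_.mul_one, _root_.one_mul]
      exact congrArg₂ (· * ·) (congr($hl a)) (congr($hr b))
    | add x y hx hy => rw [map_add, map_add]; exact congrArg₂ (· + ·) hx hy
  rw [show ⇑(β Z T U) = ⇑Φ.hom from funext fun z => (he z).symm]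
  exact ConcreteCategory.bijective_of_isIso Φ.hom

end Groth.Agent.GIT36.BCField
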