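import Groth.Agent.GIT36.BCField.Cert
import Groth.Agent.GIT36.BCField.Sections
import Groth.Agent.GIT36.Sections.Bun
import Groth.Agent.FBase64.TensorField

/-!
Coordinates, over the ground field, of functions after an extension of the field: supports and affineness.
-/

set_option autoImplicit false
set_option backward.isDefEq.respectTransparency.types false
set_option linter.style.haveILetI false
set_option linter.unusedSectionVars false

universe u

open CategoryTheory CategoryTheory.Limits MonoidalCategory CartesianMonoidalCategory AlgebraicGeometry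
open scoped TensorProduct
open Groth.Agent.GIT36.Sections

noncomputable section

namespace Groth.Agent.GIT36.BCField

variable {k : Type u} [Field k]

attribute [local instance] gU

/-- points of a product outside the non-vanishing loci of all coordinates -/
theorem exists_co_of_mem {Z T : Over (Spec (CommRingCat.of k))} {κ : Type u} (b : Module.Basis κ k Γ(T.left, ⊤))
    {U : Z.left.Opens} (z : Γ(Z.left, U) ⊗[k] Γ(T.left, ⊤)) {p : (Z ⊗ T).left}
    (hp : p ∈ (Z ⊗ T).left.basicOpen (β Z T U z)) : ∃ l, (fst Z T).left p ∈ Z.left.basicOpen (co b z l) := by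
  by_contra! h
  have hpU : p ∈ (fst Z T).left ⁻¹ᵁ U := (Z ⊗ T).left.basicOpen_le _ hp
  rw [← co_sum b z, map_sum, Scheme.mem_basicOpen _ _ p hpU, map_sum] at hp
  have hmem : ∑ l ∈ (co b z).support,
      (Z ⊗ T).left.presheaf.germ _ p hpU (β Z T U (co b z l ⊗ₜ[k] b l)) ∈
      IsLocalRing.maximalIdeal ((Z ⊗ T).left.presheaf.stalk p) := Ideal.sum_mem _ fun l _ => by
    rw [β_tmul, map_mul]
    refine Ideal.mul_mem_right _ _ ?_
    rw [IsLocalRing.mem_maximalIdeal, mem_nonunits_iff, ← Scheme.mem_basicOpen]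
    intro hl
    refine h l ?_
    have e : (fst Z T).left ⁻¹ᵁ Z.left.basicOpen (co b z l) =
        (Z ⊗ T).left.basicOpen (pullU (fst Z T) le_rfl (co b z l)) := by
      rw [Scheme.preimage_basicOpen, pullU_apply, Scheme.Hom.app_eq_appLE]
    exact e.ge hl
  exact (IsLocalRing.mem_maximalIdeal _).1 hmem hp

variable [CharZero k] {Z T : Over (Spec (CommRingCat.of k))} [IsAffine T.left] [_root_.IsReduced Γ(T.left, ⊤)]
  {κ : Type u} (b : Module.Basis κ k Γ(T.left, ⊤))

/-- supports of coordinates -/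
theorem co_supp (z : Γ(Z.left, ⊤) ⊗[k] Γ(T.left, ⊤)) {O : Z.left.Opens}
    (hO : (Z ⊗ T).left.basicOpen (β Z T ⊤ z) ≤ (fst Z T).left ⁻¹ᵁ O) (l : κ) :
    Z.left.basicOpen (co b z l) ≤ O := by
  intro v hv
  by_contra hvO
  let F : Over (Spec (CommRingCat.of k)) := Over.mk (Z.left.fromSpecResidueField v ≫ Z.hom)
  let h : F ⟶ Z := Over.homMk (Z.left.fromSpecResidueField v) rfl
  haveI : IsAffine F.left := inferInstanceAs (IsAffine (Spec _))
  haveI : AlgebraicGeometry.IsReduced F.left := inferInstanceAs (AlgebraicGeometry.IsReduced (Spec _))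
  haveI : IsAffine (F ⊗ T).left := inferInstanceAs (IsAffine (pullback F.hom T.hom))
  have hpt : ∀ w, h.left w = v := fun w => Scheme.fromSpecResidueField_apply v w
  let z' := (pullU h (le_top : (⊤ : F.left.Opens) ≤ h.left ⁻¹ᵁ ⊤)).toLinearMap.rTensor _ z
  have hbot : (F ⊗ T).left.basicOpen (β F T ⊤ z') = ⊥ := by
    rw [← β_natural, pullU_apply, Scheme.basicOpen_appLE]
    refine eq_bot_iff.2 fun w hw => hvO ?_
    have h' : (fst Z T).left ((h ▷ T).left w) ∈ O := hO hw.2
    rwa [← Scheme.Hom.comp_apply, ← Over.comp_left, whiskerRight_fst, Over.comp_left, Scheme.Hom.comp_apply,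
      hpt] at h'
  haveI : CompactSpace (F ⊗ T).left := inferInstance
  have hnil : IsNilpotent (β F T ⊤ z') := (Scheme.isNilpotent_iff_basicOpen_eq_bot _).2 hbot
  haveI : _root_.IsReduced (Γ(F.left, ⊤) ⊗[k] Γ(T.left, ⊤)) := FBase64.isReduced_tensor_of_perfectField k _ _
  have hzero : z' = 0 := by
    obtain ⟨m, hm⟩ := hnil
    refine IsReduced.eq_zero z' ⟨m, (β_bijective T ⊤ isCompact_univ
      (IsQuasiSeparated.of_quasiSeparatedSpace _)).1 ?_⟩
    rw [map_pow, hm, map_zero]
  have h0 := congrArg (fun x => co b x l) hzero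
  simp only [z', co_map, map_zero, Finsupp.coe_zero, Pi.zero_apply] at h0
  let w : F.left := IsLocalRing.closedPoint _
  have hw : w ∈ h.left ⁻¹ᵁ Z.left.basicOpen (co b z l) := by
    show h.left w ∈ Z.left.basicOpen (co b z l)
    rw [hpt]
    exact hv
  rw [Scheme.preimage_basicOpen, Scheme.Hom.app_eq_appLE,
    show h.left.appLE ⊤ (h.left ⁻¹ᵁ ⊤) le_rfl (co b z l) = 0 from h0, Scheme.basicOpen_zero] at hw
  exact hw

section Cert

variable {X : Scheme.{u}} {π : Z.left ⟶ X} [IsAffineHom π] (A : Atlas π) [CompactSpace Z.left]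
  [QuasiSeparatedSpace Z.left]

/-- the coordinates of a function with affine non-vanishing locus are in the radical of the certificate -/
theorem co_mem_radical (z : Γ(Z.left, ⊤) ⊗[k] Γ(T.left, ⊤))
    (hz : IsAffineOpen ((Z ⊗ T).left.basicOpen (β Z T ⊤ z))) (l : κ) : co b z l ∈ (cert A).radical := by
  haveI : IsAffineHom (fst Z T).left := MorphismProperty.pullback_fst (P := @IsAffineHom) _ _ inferInstance
  haveI : CompactSpace (Z ⊗ T).left := QuasiCompact.compactSpace_of_compactSpace (fst Z T).left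
  haveI : QuasiSeparatedSpace (Z ⊗ T).left := quasiSeparatedSpace_of_quasiSeparated (fst Z T).left
  let P : Set (Z ⊗ T).left.Opens := (fun O => (fst Z T).left ⁻¹ᵁ O) '' small A
  have hmem := mem_radical_span_supp P (β Z T ⊤ z) hz fun p _ => by
    obtain ⟨O, hO, hpO⟩ := exists_small A ((fst Z T).left p)
    exact ⟨_, ⟨O, hO, rfl⟩, hpO⟩
  let S := Γ(Z.left, ⊤) ⧸ (cert A).radical
  haveI : _root_.IsReduced S := (Ideal.isRadical_iff_quotient_reduced _).1 (Ideal.radical_isRadical _)
  haveI : _root_.IsReduced (S ⊗[k] Γ(T.left, ⊤)) := FBase64.isReduced_tensor_of_perfectField k _ _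
  let mk : Γ(Z.left, ⊤) →ₐ[k] S := Ideal.Quotient.mkₐ k _
  let Q := Algebra.TensorProduct.map mk (AlgHom.id k Γ(T.left, ⊤))
  have hQ : ∀ x, Q x = mk.toLinearMap.rTensor _ x := fun x => by
    induction x with
    | zero => simp
    | tmul a c => simp [Q]
    | add x y hx hy => simp [hx, hy]
  let e := RingEquiv.ofBijective (β Z T ⊤) (β_bijective T ⊤ isCompact_univ
    (IsQuasiSeparated.of_quasiSeparatedSpace _))
  let ρ := Q.toRingHom.comp e.symm.toRingHom
  have hker : Ideal.span (supp P) ≤ RingHom.ker ρ := by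
    refine Ideal.span_le.2 ?_
    rintro t ⟨_, ⟨O, hO, rfl⟩, hle⟩
    obtain ⟨x, rfl⟩ := e.surjective t
    show Q (e.symm (e x)) = 0
    rw [e.symm_apply_apply, hQ]
    refine co_inj b fun i => ?_
    rw [co_map, map_zero, Finsupp.zero_apply]
    exact Ideal.Quotient.eq_zero_iff_mem.2
      (Ideal.le_radical (Ideal.subset_span ⟨O, hO, co_supp b x hle i⟩))
  obtain ⟨m, hm⟩ := hmem
  have h0 : Q z = 0 := IsReduced.eq_zero _ ⟨m, by
    have := RingHom.mem_ker.1 (hker hm)
    rw [map_pow] at this
    exact (congrArg (· ^ m) (show ρ (β Z T ⊤ z) = Q z from congrArg Q (e.symm_apply_apply z))).symm.trans this⟩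
  refine Ideal.Quotient.eq_zero_iff_mem.1 ?_
  show mk.toLinearMap (co b z l) = 0
  rw [← co_map, ← hQ, h0, map_zero, Finsupp.zero_apply]

end Cert

end Groth.Agent.GIT36.BCField
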