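import Groth.Agent.GIT36.SSRed.Reduce

/-!
Pull back of a linearised bundle along an affine morphism of the base.
-/

set_option autoImplicit false
set_option backward.isDefEq.respectTransparency.types false
set_option linter.style.haveILetI false
set_option linter.unusedSectionVars false
set_option maxHeartbeats 600000

universe u

open CategoryTheory CategoryTheory.Limits MonoidalCategory CartesianMonoidalCategory MonObj GrpObj AlgebraicGeometry
  Opposite TopologicalSpace
open Groth.Agent.GIT36.Sections Groth.Agent.GIT36.Proj Groth.Agent.GIT36.Mu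

noncomputable section

namespace Groth.Agent.GIT36.BCField

section Red

variable {k : Type u} [Field k] {G X Xr : Over (St k)} [GrpObj G] {a : AlgGrp.Action G X} {B : GLinSh.LinBun G a}
  (j : Xr ⟶ X) [IsAffineHom j.left]
  {ar : AlgGrp.Action G Xr} {Br : GLinSh.LinBun G ar} {q : Br.V ⟶ B.V} (hq : Br.π ≫ j = q ≫ B.π)
  (hle : ∀ U : X.left.Opens, Br.π.left ⁻¹ᵁ (j.left ⁻¹ᵁ U) ≤ q.left ⁻¹ᵁ (B.π.left ⁻¹ᵁ U))
  (hchart : ∀ (U : X.left.Opens) (y : Γ(B.V.left, B.π.left ⁻¹ᵁ U)), y ∈ B.atlas.chart U →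
    q.left.appLE (B.π.left ⁻¹ᵁ U) (Br.π.left ⁻¹ᵁ (j.left ⁻¹ᵁ U)) (hle U) y ∈ Br.atlas.chart (j.left ⁻¹ᵁ U))

include hq hle hchart in
/-- the map of total spaces is the base change -/
theorem isPullback_q : IsPullback q.left Br.π.left B.π.left j.left := by
  haveI := B.atlas.affine
  haveI := Br.atlas.affine
  have hw : q.left ≫ B.π.left = Br.π.left ≫ j.left := by
    rw [← Over.comp_left, ← Over.comp_left, hq]
  have hpb := IsPullback.of_hasPullback B.π.left j.left
  let c : Br.V.left ⟶ pullback B.π.left j.left := pullback.lift q.left Br.π.left hw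
  haveI : IsAffineHom (pullback.snd B.π.left j.left) := MorphismProperty.pullback_snd (P := @IsAffineHom) _ _ inferInstance
  suffices IsIso c by
    haveI := this
    exact IsPullback.of_iso_pullback ⟨hw⟩ (asIso c) (pullback.lift_fst _ _ _) (pullback.lift_snd _ _ _)
  choose U₀ hxU hne using fun x : X.left => B.atlas.cover x
  choose y₀ hy₀ using hne
  choose W hWa hxW hWU using fun x : X.left => exists_affine_le (hxU x)
  let π₂ := pullback.snd B.π.left j.left
  refine SSRed.isIso_of_app_bijective c (fun x => π₂ ⁻¹ᵁ (j.left ⁻¹ᵁ W x)) ?_ (fun x => ((hWa x).preimage j.left).preimage π₂)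
    (fun x => ?_) fun x => ?_
  · refine top_le_iff.1 fun v _ => Opens.mem_iSup.2 ⟨j.left (π₂ v), hxW _⟩
  · rw [← Scheme.Hom.comp_preimage, show c ≫ π₂ = Br.π.left from pullback.lift_snd _ _ _]
    exact ((hWa x).preimage j.left).preimage Br.π.left
  · have e' : π₂ ⁻¹ᵁ (j.left ⁻¹ᵁ U₀ x) ≤ pullback.fst B.π.left j.left ⁻¹ᵁ (B.π.left ⁻¹ᵁ U₀ x) := by
      rw [← Scheme.Hom.comp_preimage, ← pullback.condition, Scheme.Hom.comp_preimage]
    have h₁ := LineBundle.bijective_evalAt_baseChange (π' := π₂) hpb (y₀ x)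
      (fun W' hW' h' => B.atlas.coord _ _ (hy₀ x) W' hW' h') le_rfl e' ((hWa x).preimage j.left)
      (j.left.preimage_mono (hWU x))
    have h₂ := Br.atlas.coord _ _ (hchart _ _ (hy₀ x)) (j.left ⁻¹ᵁ W x) ((hWa x).preimage j.left)
      (j.left.preimage_mono (hWU x))
    have hcπ : c ≫ π₂ = Br.π.left := pullback.lift_snd _ _ _
    have hcf : c ≫ pullback.fst B.π.left j.left = q.left := pullback.lift_fst _ _ _
    have hle' : Br.π.left ⁻¹ᵁ (j.left ⁻¹ᵁ W x) ≤ c ⁻¹ᵁ (π₂ ⁻¹ᵁ (j.left ⁻¹ᵁ W x)) :=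
      le_of_eq (by rw [← hcπ]; rfl)
    have key : ∀ p, c.appLE _ _ hle' (LineBundle.evalAt π₂ ((pullback.fst B.π.left j.left).appLE _ _ e' (y₀ x))
        (j.left.preimage_mono (hWU x)) p) = Polynomial.eval₂RingHom (Br.π.left.app (j.left ⁻¹ᵁ W x)).hom
          (GLinSh.res Br.π (j.left.preimage_mono (hWU x)) (q.left.appLE _ _ (hle (U₀ x)) (y₀ x))) p := by
      intro p
      induction p using Polynomial.induction_on' with
      | add p r hp hr => simp only [map_add, hp, hr]
      | monomial i d =>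
        rw [SSRed.evalAt_apply, Polynomial.coe_eval₂RingHom, Polynomial.eval₂_monomial, Polynomial.eval₂_monomial,
          map_mul, map_pow]
        refine congrArg₂ (fun u v => u * v ^ i) ?_ ?_
        · simp only [Scheme.Hom.app_eq_appLE, ← CommRingCat.comp_apply, Scheme.Hom.appLE_comp_appLE]
          exact congr($(LineBundle.appLE_congr_hom hcπ _ _).hom d)
        · simp only [GLinSh.res, rs, ← CommRingCat.comp_apply, Scheme.Hom.appLE_map,
            Scheme.Hom.appLE_comp_appLE]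
          exact congr($(LineBundle.appLE_congr_hom hcf _ _).hom (y₀ x))
    have hb : Function.Bijective (c.appLE _ _ hle') := by
      refine (Function.Bijective.of_comp_iff _ h₁).1 ?_
      rw [show _ ∘ _ = _ from funext key]
      exact h₂
    have : c.app (π₂ ⁻¹ᵁ (j.left ⁻¹ᵁ W x)) ≫ Br.V.left.presheaf.map (homOfLE hle').op = c.appLE _ _ hle' := rfl
    have hiso : IsIso (Br.V.left.presheaf.map (homOfLE hle').op) := by
      have e : c ⁻¹ᵁ (π₂ ⁻¹ᵁ (j.left ⁻¹ᵁ W x)) = Br.π.left ⁻¹ᵁ (j.left ⁻¹ᵁ W x) := by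
        rw [← hcπ]; rfl
      rw [show (homOfLE hle').op = eqToHom (congrArg op e) from Subsingleton.elim _ _]
      infer_instance
    rw [← this] at hb
    exact (Function.Bijective.of_comp_iff' ((ConcreteCategory.isIso_iff_bijective _).1 hiso) _).1
      (by convert hb using 1; exact (funext fun _ => (CommRingCat.comp_apply _ _ _).symm))

variable (hlift : Br.lift.act ≫ q = (G ◁ q) ≫ B.lift.act)

include hq hle hchart hlift in
/-- invariant sections restrict to the reduction -/
theorem inv_restrict {n : ℕ} {f : Γ(B.V.left, ⊤)} (hf : B.IsInvSection n f) :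
    Br.IsInvSection n (q.left.appTop f) ∧
      GLinSh.nonvanishing Br.π (q.left.appTop f) = j.left.base ⁻¹' GLinSh.nonvanishing B.π f := by
  haveI := B.atlas.affine
  haveI := Br.atlas.affine
  have hpb := isPullback_q j hq hle hchart
  refine ⟨⟨fun U' y' hy' => exists_coef_of_locally (Br.atlas.coord U' y' hy') n _ fun x hx => ?_, ?_⟩, nv_pull hpb f⟩
  · obtain ⟨U, hxU, y, hy⟩ := B.atlas.cover (j.left x)
    obtain ⟨d, hd⟩ := hf.1 U y hy
    obtain ⟨c, hc, hcy⟩ := Br.atlas.linear U' (j.left ⁻¹ᵁ U) y' _ hy' (hchart U y hy)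
    have hcy' : rs (Br.π.left.preimage_mono (inf_le_right : U' ⊓ j.left ⁻¹ᵁ U ≤ j.left ⁻¹ᵁ U))
        (q.left.appLE (B.π.left ⁻¹ᵁ U) (Br.π.left ⁻¹ᵁ (j.left ⁻¹ᵁ U)) (hle U) y) =
          Br.π.left.app (U' ⊓ j.left ⁻¹ᵁ U) c * rs (Br.π.left.preimage_mono inf_le_left) y' := hcy
    refine ⟨U' ⊓ j.left ⁻¹ᵁ U, inf_le_left, ⟨hx, hxU⟩, j.left.appLE U _ inf_le_right d * c ^ n, ?_⟩
    rw [rs_appTop f ((Br.π.left.preimage_mono inf_le_right).trans (hle U)), show rs le_top f = _ from hd, map_mul,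
      map_pow, appLE_app hpb.w inf_le_right d, map_mul (Br.π.left.app (U' ⊓ j.left ⁻¹ᵁ U)).hom, map_pow,
      _root_.mul_assoc, ← mul_pow, ← hcy']
    refine congrArg₂ (fun u v => u * v ^ n) rfl ?_
    simp only [rs, ← CommRingCat.comp_apply, Scheme.Hom.appLE_map]
  · show Br.lift.act.left.appTop (q.left.appTop f) = (snd G Br.V).left.appTop (q.left.appTop f)
    rw [← CommRingCat.comp_apply, ← CommRingCat.comp_apply, ← Scheme.Hom.comp_appTop, ← Scheme.Hom.comp_appTop,
      ← Over.comp_left, ← Over.comp_left, hlift, ← whiskerLeft_snd, Over.comp_left, Over.comp_left,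
      Scheme.Hom.comp_appTop, Scheme.Hom.comp_appTop, CommRingCat.comp_apply, CommRingCat.comp_apply,
      show B.lift.act.left.appTop f = _ from hf.2]

end Red

end Groth.Agent.GIT36.BCField
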