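import Groth.Agent.GIT36.BCField.Coord
import Groth.Agent.GIT36.BCField.Pullback

/-!
Invariant sections after an extension of the field have invariant coordinates over the ground field.
-/

set_option autoImplicit false
set_option backward.isDefEq.respectTransparency.types false
set_option linter.style.haveILetI false
set_option linter.unusedSectionVars false
set_option maxHeartbeats 800000

universe u

open CategoryTheory CategoryTheory.Limits MonoidalCategory CartesianMonoidalCategory MonObj GrpObj AlgebraicGeometry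
open scoped TensorProduct
open Groth.Agent.GIT36.Sections Groth.Agent.GIT36.Proj Groth.Agent.GIT36.Mu

noncomputable section

namespace Groth.Agent.GIT36.BCField

variable {k : Type u} [Field k]

attribute [local instance] gU

theorem pullU_id {Z : Over (Spec (CommRingCat.of k))} {U U' : Z.left.Opens} (e : U' ≤ U) (s : Γ(Z.left, U)) :
    pullU (𝟙 Z) (show U' ≤ (𝟙 Z : Z ⟶ Z).left ⁻¹ᵁ U from e) s = rs e s := by
  rw [pullU_apply, rs]
  simp [Scheme.Hom.appLE]
  rfl

theorem pullU_injective_of_isIso {Z Z' : Over (Spec (CommRingCat.of k))} (h : Z' ⟶ Z) [IsIso h] {U : Z.left.Opens}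
    {U' : Z'.left.Opens} (e : U' ≤ h.left ⁻¹ᵁ U) (e' : h.left ⁻¹ᵁ U ≤ U') :
    Function.Injective (pullU h e) := by
  have he : U ≤ (inv h).left ⁻¹ᵁ U' := fun z hz => e' (by
    show ((inv h).left ≫ h.left) z ∈ U
    rw [← Over.comp_left, IsIso.inv_hom_id]
    exact hz)
  intro s t hst
  have h2 := congrArg (pullU (inv h) he) hst
  rwa [pullU_comp e he (by rw [IsIso.inv_hom_id]; exact le_rfl), pullU_comp e he (by rw [IsIso.inv_hom_id]; exact le_rfl),
    pullU_congr (IsIso.inv_hom_id h) _ (le_refl U), pullU_congr (IsIso.inv_hom_id h) _ (le_refl U), pullU_id le_rfl,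
    pullU_id le_rfl, rs_self, rs_self] at h2

variable {G X : Over (Spec (CommRingCat.of k))} [GrpObj G] {a : AlgGrp.Action G X} {B : GLinSh.LinBun G a}
  {T : Over (Spec (CommRingCat.of k))} [IsAffine T.left] {a' : AlgGrp.Action G (X ⊗ T)}
  (ha'' : a'.act ≫ snd X T = snd G (X ⊗ T) ≫ snd X T)
  {B' : GLinSh.LinBun G a'} {q : B'.V ⟶ B.V} (hq : B'.π ≫ fst X T = q ≫ B.π)
  (hlift : B'.lift.act ≫ q = (G ◁ q) ≫ B.lift.act)
  (hle : ∀ U : X.left.Opens, B'.π.left ⁻¹ᵁ ((fst X T).left ⁻¹ᵁ U) ≤ q.left ⁻¹ᵁ (B.π.left ⁻¹ᵁ U))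
  (hchart : ∀ (U : X.left.Opens) (y : Γ(B.V.left, B.π.left ⁻¹ᵁ U)), y ∈ B.atlas.chart U →
    q.left.appLE (B.π.left ⁻¹ᵁ U) (B'.π.left ⁻¹ᵁ ((fst X T).left ⁻¹ᵁ U)) (hle U) y ∈
      B'.atlas.chart ((fst X T).left ⁻¹ᵁ U))

theorem isAffineHom_fst : IsAffineHom (fst X T).left :=
  MorphismProperty.pullback_fst (P := @IsAffineHom) _ _ inferInstance

/-- comparison of the total space with the product -/
def cmp (B' : GLinSh.LinBun G a') (q : B'.V ⟶ B.V) : B'.V ⟶ B.V ⊗ T := lift q (B'.π ≫ snd X T)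

theorem cmp_fst : cmp B' q ≫ fst B.V T = q := lift_fst _ _

include hq in
theorem cmp_whisker : cmp B' q ≫ (B.π ▷ T) = B'.π := by
  apply CartesianMonoidalCategory.hom_ext
  · rw [Category.assoc, whiskerRight_fst, ← Category.assoc, cmp_fst, hq]
  · rw [Category.assoc, whiskerRight_snd, cmp, lift_snd]

include hq hle hchart in
theorem isIso_cmp : IsIso (cmp B' q) := by
  haveI := isAffineHom_fst (X := X) (T := T)
  have h1 := isPullback_q (fst X T) hq hle hchart
  have h2 := (Quot.isPullback_whiskerRight_left T B.π).flip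
  haveI : IsIso (cmp B' q).left := by
    have e1 : (cmp B' q).left ≫ (fst B.V T).left = q.left := by rw [← Over.comp_left, cmp_fst]
    have e2 : (cmp B' q).left ≫ (B.π ▷ T).left = B'.π.left := by rw [← Over.comp_left, cmp_whisker hq]
    rw [show (cmp B' q).left = (h1.isoIsPullback _ _ h2).hom from h2.hom_ext
        (e1.trans (h1.isoIsPullback_hom_fst _ _ h2).symm) (e2.trans (h1.isoIsPullback_hom_snd _ _ h2).symm)]
    infer_instance
  haveI : IsIso ((Over.forget _).map (cmp B' q)) := ‹IsIso (cmp B' q).left›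
  exact isIso_of_reflects_iso _ (Over.forget _)

include ha'' hlift in
theorem act_cmp : B'.lift.act ≫ cmp B' q = (G ◁ cmp B' q) ≫
    lift ((G ◁ fst B.V T) ≫ B.lift.act) (snd G (B.V ⊗ T) ≫ snd B.V T) := by
  apply CartesianMonoidalCategory.hom_ext
  · simp only [cmp, Category.assoc, lift_fst]
    rw [hlift, ← MonoidalCategory.whiskerLeft_comp_assoc, lift_fst]
  · simp only [cmp, Category.assoc, lift_snd]
    rw [← Category.assoc, B'.lift_π, Category.assoc, ha'', ← Category.assoc, whiskerLeft_snd, Category.assoc,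
      whiskerLeft_snd_assoc, lift_snd]

variable [CharZero k] [LocallyOfFiniteType G.hom] [QuasiCompact G.hom] [LocallyOfFiniteType X.hom]
  [QuasiCompact X.hom] {κ : Type u} (b : Module.Basis κ k Γ(T.left, ⊤))

include ha'' hq hlift hle hchart in
/-- coordinates of an invariant section are invariant sections -/
theorem exists_coords {n : ℕ} {f : Γ(B'.V.left, ⊤)} (hf : B'.IsInvSection n f) :
    ∃ z : Γ(B.V.left, ⊤) ⊗[k] Γ(T.left, ⊤),
      pullU (cmp B' q) (U := (fst B.V T).left ⁻¹ᵁ ⊤) (U' := ⊤) le_top (β B.V T ⊤ z) = f ∧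
        ∀ l, B.IsInvSection n (co b z l) := by
  haveI := B.atlas.affine
  haveI := B'.atlas.affine
  haveI := isAffineHom_fst (X := X) (T := T)
  haveI := isIso_cmp hq hle hchart
  haveI : CompactSpace X.left := QuasiCompact.compactSpace_of_compactSpace X.hom
  haveI := quasiCompact_total B
  haveI : CompactSpace B.V.left := QuasiCompact.compactSpace_of_compactSpace B.V.hom
  haveI : IsLocallyNoetherian X.left := LocallyOfFiniteType.isLocallyNoetherian X.hom
  haveI := quasiSeparated_total B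
  haveI : QuasiSeparatedSpace B.V.left := quasiSeparatedSpace_of_quasiSeparated B.V.hom
  haveI : IsLocallyNoetherian G.left := LocallyOfFiniteType.isLocallyNoetherian G.hom
  haveI : QuasiSeparatedSpace G.left := inferInstance
  haveI : QuasiSeparated G.hom := inferInstance
  haveI : CompactSpace (G ⊗ B.V).left := by
    haveI : QuasiCompact (G ⊗ B.V).hom := by
      show QuasiCompact (pullback.fst G.hom B.V.hom ≫ G.hom)
      infer_instance
    exact QuasiCompact.compactSpace_of_compactSpace (G ⊗ B.V).hom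
  haveI : QuasiSeparatedSpace (G ⊗ B.V).left := by
    haveI : QuasiSeparated (G ⊗ B.V).hom := by
      show QuasiSeparated (pullback.fst G.hom B.V.hom ≫ G.hom)
      infer_instance
    exact quasiSeparatedSpace_of_quasiSeparated (G ⊗ B.V).hom
  let c := cmp B' q
  have hbV := β_bijective (Z := B.V) T ⊤ isCompact_univ (IsQuasiSeparated.of_quasiSeparatedSpace _)
  obtain ⟨z, hz⟩ := hbV.2 (pullU (inv c) (U := ⊤) (U' := (fst B.V T).left ⁻¹ᵁ ⊤) le_top f)
  have hcf : pullU c (U := (fst B.V T).left ⁻¹ᵁ ⊤) (U' := ⊤) le_top (β B.V T ⊤ z) = f := by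
    rw [hz, pullU_comp _ _ (le_top), pullU_congr (IsIso.hom_inv_id c) _ (le_refl ⊤), pullU_id le_rfl, rs_self]
  refine ⟨z, hcf, fun l => ⟨fun U y hy => ?_, ?_⟩⟩
  · -- weights
    refine Proj.exists_coef_of_locally (π := B.π.left) (B.atlas.coord U y hy) n _ fun x hx => ?_
    obtain ⟨W, hWa, hxW, hWU⟩ := Sections.exists_affine_le hx
    let O := B.π.left ⁻¹ᵁ W
    let yW : Γ(B.V.left, O) := rs (B.π.left.preimage_mono hWU) y
    obtain ⟨c₀, hc₀⟩ := hf.1 _ _ (hchart U y hy)
    have hW' : (fst X T).left ⁻¹ᵁ W ≤ (fst X T).left ⁻¹ᵁ U := (fst X T).left.preimage_mono hWU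
    have hres := Atlas.Wt.res (π := B'.π.left) hc₀ hW'
    obtain ⟨d, hd⟩ := (β_bijective (Z := X) T W hWa.isCompact hWa.isQuasiSeparated).2 (rs hW' c₀)
    let O' := B'.π.left ⁻¹ᵁ ((fst X T).left ⁻¹ᵁ W)
    have hcO : O' ≤ c.left ⁻¹ᵁ ((fst B.V T).left ⁻¹ᵁ O) := fun p hp => by
      show B.π.left ((c.left ≫ (fst B.V T).left) p) ∈ W
      rw [← Over.comp_left, cmp_fst, ← Scheme.Hom.comp_apply, ← Over.comp_left, ← hq]
      exact hp
    have hcO' : c.left ⁻¹ᵁ ((fst B.V T).left ⁻¹ᵁ O) ≤ O' := fun p hp => by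
      show (B'.π ≫ fst X T).left p ∈ W
      rw [hq, ← cmp_fst (B' := B') (q := q)]
      exact hp
    let L₁ : Γ(B.V.left, ⊤) →ₐ[k] Γ(B.V.left, O) := pullU (𝟙 B.V) le_top
    let P : Γ(X.left, W) →ₐ[k] Γ(B.V.left, O) := pullU B.π le_rfl
    let L₂ : Γ(X.left, W) →ₗ[k] Γ(B.V.left, O) := (LinearMap.mulRight k (yW ^ n)).comp P.toLinearMap
    have key : L₁.toLinearMap.rTensor _ z = L₂.rTensor _ d := by
      have e0 : ∀ w, L₂.rTensor _ w = P.toLinearMap.rTensor _ w * ((yW ^ n) ⊗ₜ[k] (1 : Γ(T.left, ⊤))) := fun w => by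
        induction w with
        | zero => simp
        | tmul s t => simp [L₂]
        | add x y hx hy => simp [add_mul, hx, hy]
      apply (β_bijective (Z := B.V) T O (hWa.preimage B.π.left).isCompact
        (hWa.preimage B.π.left).isQuasiSeparated).1
      apply pullU_injective_of_isIso c hcO hcO'
      have e1 : O ≤ (𝟙 B.V : B.V ⟶ B.V).left ⁻¹ᵁ ⊤ := le_top
      rw [e0, map_mul, map_mul, ← β_natural, ← β_natural, pullU_comp _ _ le_top,
        pullU_congr (show c ≫ (𝟙 B.V ▷ T) = 𝟙 B'.V ≫ c by simp) _ le_top,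
        ← pullU_comp (h := c) (g := 𝟙 B'.V) (U := (fst B.V T).left ⁻¹ᵁ ⊤) (U' := ⊤) le_top
          (show O' ≤ (𝟙 B'.V : B'.V ⟶ B'.V).left ⁻¹ᵁ ⊤ from le_top), hcf, pullU_id le_top,
        pullU_comp _ _ (by rw [cmp_whisker hq]),
        pullU_congr (cmp_whisker hq) _ (le_refl O'), hd, β_tmul, map_one, _root_.mul_one, pullU_comp _ _
          (show O' ≤ (c ≫ fst B.V T).left ⁻¹ᵁ O from hcO)]
      rw [show rs le_top f = _ from hres]
      refine congrArg₂ (· * ·) ?_ ?_
      · rw [pullU_apply, Scheme.Hom.app_eq_appLE]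
      · rw [map_pow, pullU_congr (cmp_fst (B' := B') (q := q)) _ (by rw [← cmp_fst (B' := B') (q := q)]; exact hcO)]
        refine congrArg (· ^ n) ?_
        simp only [yW, pullU_apply, rs, ← CommRingCat.comp_apply, Scheme.Hom.appLE_map, Scheme.Hom.map_appLE]
        rfl
    have h2 := congrArg (fun w => co b w l) key
    rw [co_map, co_map] at h2
    refine ⟨W, hWU, hxW, co b d l, ?_⟩
    refine (pullU_id le_top _).symm.trans (h2.trans ?_)
    show pullU B.π le_rfl (co b d l) * yW ^ n = _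
    rw [pullU_apply, Scheme.Hom.app_eq_appLE]
  · -- invariance
    let r : G ⊗ (B.V ⊗ T) ⟶ B.V ⊗ T :=
      lift ((G ◁ fst B.V T) ≫ B.lift.act) (snd G (B.V ⊗ T) ≫ snd B.V T)
    let α : (G ⊗ B.V) ⊗ T ⟶ G ⊗ (B.V ⊗ T) := lift (fst (G ⊗ B.V) T ≫ fst G B.V) (snd G B.V ▷ T)
    have hαr : α ≫ r = B.lift.act ▷ T := by
      apply CartesianMonoidalCategory.hom_ext
      · simp only [r, α, Category.assoc, lift_fst, whiskerRight_fst, lift_whiskerLeft_assoc]
        rw [← comp_lift_assoc, lift_fst_snd, Category.id_comp]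
      · simp [r, α]
    have hαs : α ≫ snd G (B.V ⊗ T) = snd G B.V ▷ T := lift_snd _ _
    let f₀ := β B.V T ⊤ z
    let D := (fst B.V T).left ⁻¹ᵁ (⊤ : B.V.left.Opens)
    have h1 : pullU r (U := D) (U' := ⊤) le_top f₀ = pullU (snd G (B.V ⊗ T)) (U := D) (U' := ⊤) le_top f₀ := by
      haveI : IsIso (G ◁ c) := inferInstance
      apply pullU_injective_of_isIso (G ◁ c) (U' := ⊤) le_top le_top
      rw [pullU_comp _ _ le_top, pullU_comp _ _ le_top, pullU_congr (act_cmp ha'' hlift).symm _ le_top,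
        pullU_congr (whiskerLeft_snd G c) _ le_top,
        ← pullU_comp (h := c) (g := B'.lift.act) (U := D) (U' := ⊤) le_top le_top le_top,
        ← pullU_comp (h := c) (g := snd G B'.V) (U := D) (U' := ⊤) le_top le_top le_top, hcf]
      rw [pullU_apply, pullU_apply]
      have := hf.2
      simp only [GLinSh.IsInvFn, Scheme.Hom.appTop, Scheme.Hom.app_eq_appLE] at this
      exact this
    have h2 := congrArg (pullU α (U := ⊤) (U' := (fst (G ⊗ B.V) T).left ⁻¹ᵁ ⊤) le_top) h1
    rw [pullU_comp _ _ le_top, pullU_comp _ _ le_top, pullU_congr hαr _ le_top, pullU_congr hαs _ le_top] at h2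
    erw [β_natural, β_natural] at h2
    have h3 := (β_bijective (Z := G ⊗ B.V) T ⊤ isCompact_univ (IsQuasiSeparated.of_quasiSeparatedSpace _)).1 h2
    have h4 := congrArg (fun w => co b w l) h3
    rw [co_map, co_map] at h4
    show B.lift.act.left.appTop (co b z l) = (snd G B.V).left.appTop (co b z l)
    rw [Scheme.Hom.appTop, Scheme.Hom.app_eq_appLE, Scheme.Hom.appTop, Scheme.Hom.app_eq_appLE]
    exact h4

end Groth.Agent.GIT36.BCField
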