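import Groth.Agent.GIT36.Regular.Stable

/-!
Closedness of orbits inside opens: change of the open, of the base field and of the geometric point.
-/

set_option autoImplicit false
set_option backward.isDefEq.respectTransparency.types false
set_option linter.style.haveILetI false
set_option linter.unusedSectionVars false
set_option maxHeartbeats 800000

universe u

open CategoryTheory CategoryTheory.Limits MonoidalCategory CartesianMonoidalCategory MonObj GrpObj AlgebraicGeometry
open Groth.Agent.GIT36.Proj Groth.Agent.GIT36.Sections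

noncomputable section

namespace Groth.Agent.GIT36.BCField

/-- a set is closed inside an open iff the rest of the open is open -/
theorem isClosed_in_iff {Z : Scheme.{u}} (O : Z.Opens) (R : Set Z) :
    IsClosed ((fun p : O => (p : Z)) ⁻¹' R) ↔ IsOpen ((O : Set Z) \ R) := by
  constructor
  · intro h
    have := O.2.isOpenMap_subtype_val _ h.isOpen_compl
    convert this using 1
    ext p
    exact ⟨fun hp => ⟨⟨p, hp.1⟩, hp.2, rfl⟩, fun ⟨q, hq, e⟩ => e ▸ ⟨q.2, hq⟩⟩
  · intro h
    refine ⟨?_⟩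
    convert h.preimage (continuous_subtype_val (p := (· ∈ O))) using 1
    ext p
    exact ⟨fun hp => ⟨p.2, hp⟩, fun hp => hp.2⟩

variable {k : Type u} [Field k] {G X : Over (Spec (CommRingCat.of k))} [GrpObj G] {a : AlgGrp.Action G X}

/-- an orbit closed in one affine locus is closed in another one meeting it -/
theorem isClosed_in_other (B : GLinSh.LinBun G a) {n n' : ℕ} {F F' : Γ(B.V.left, ⊤)} {W W' : X.left.Opens}
    (hn : 1 ≤ n) (hF : B.IsInvSection n F) (hW : (W : Set X.left) = GLinSh.nonvanishing B.π F) (hWa : IsAffineOpen W)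
    (hn' : 1 ≤ n') (hF' : B.IsInvSection n' F') (hW' : (W' : Set X.left) = GLinSh.nonvanishing B.π F')
    (hWa' : IsAffineOpen W')
    {Ω : Type u} [Field Ω] {T : Over (Spec (CommRingCat.of k))} (eT : T.left ≅ Spec (CommRingCat.of Ω)) (f : T ⟶ X)
    (hf : Set.range f.left.base ⊆ (W : Set X.left) ∩ W')
    (hcl : IsOpen (((fst X T).left ⁻¹ᵁ W : Set (X ⊗ T).left) \ Set.range (GIT.psi a f).left.base)) :
    IsOpen (((fst X T).left ⁻¹ᵁ W' : Set (X ⊗ T).left) \ Set.range (GIT.psi a f).left.base) := by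
  haveI := B.atlas.affine
  haveI : Subsingleton T.left := eT.hom.homeomorph.injective.subsingleton (β := PrimeSpectrum Ω)
  obtain ⟨N, E', E, hN, hE', hE, hWE', hWE⟩ :=
    Glue.exists_common (B := B) (W := W') (W' := W) ⟨n', F', hn', hF', hW', hWa'⟩ ⟨n, F, hn, hF, hW, hWa⟩
  obtain ⟨r, -, hr, hrb⟩ := Glue.exists_transition hE' hE hWE' hWE
  let O : (X ⊗ T).left.Opens := (fst X T).left ⁻¹ᵁ W'
  let P := GIT.psi a f
  have hfst : P ≫ fst X T = (G ◁ f) ≫ a.act := by simp [P, GIT.psi]
  have hxW' : ∀ t, f.left t ∈ W' := fun t => (hf ⟨t, rfl⟩).2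
  have hTW : ⊤ ≤ f.left ⁻¹ᵁ W' := fun t _ => hxW' t
  let c : Γ(T.left, ⊤) := f.left.appLE W' ⊤ hTW r
  have hcu : IsUnit c := by
    have : T.left.basicOpen c = ⊤ := by
      rw [Scheme.basicOpen_appLE]
      refine top_le_iff.1 fun t _ => ⟨trivial, ?_⟩
      show f.left t ∈ X.left.basicOpen r
      rw [hrb]
      exact ⟨hxW' t, (hf ⟨t, rfl⟩).1⟩
    refine T.left.toRingedSpace.isUnit_of_isUnit_germ ⊤ c fun t ht => ?_
    exact (Scheme.mem_basicOpen _ _ t ht).1 (by rw [this]; trivial)
  have hOs : O ≤ (snd X T).left ⁻¹ᵁ ⊤ := fun _ _ => trivial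
  let u : Γ((X ⊗ T).left, O) := (fst X T).left.appLE W' O le_rfl r
  let d : Γ((X ⊗ T).left, O) := u - (snd X T).left.appLE ⊤ O hOs c
  have hd : P.left.appLE O (P.left ⁻¹ᵁ O) le_rfl d = 0 := by
    rw [map_sub, sub_eq_zero]
    have hQ : P.left ⁻¹ᵁ O ≤ (G ◁ f).left ⁻¹ᵁ ((snd G X).left ⁻¹ᵁ W') := fun q hq => by
      rw [← Sections.preimage_invariant hE' hWE']
      show a.act.left ((G ◁ f).left q) ∈ W'
      rw [← Scheme.Hom.comp_apply, ← Over.comp_left, ← hfst, Over.comp_left, Scheme.Hom.comp_apply]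
      exact hq
    have h1 := congrArg ((G ◁ f).left.appLE _ (P.left ⁻¹ᵁ O) hQ) hr
    simp only [u, c, ← CommRingCat.comp_apply, Scheme.Hom.appLE_comp_appLE] at h1 ⊢
    have ea : P.left ≫ (fst X T).left = (G ◁ f).left ≫ a.act.left := by
      rw [← Over.comp_left, ← Over.comp_left, hfst]
    have eb : P.left ≫ (snd X T).left ≫ f.left = (G ◁ f).left ≫ (snd G X).left := by
      rw [← Over.comp_left, ← Over.comp_left, ← Over.comp_left, whiskerLeft_snd]
      simp [P, GIT.psi]
    exact (congr($(LineBundle.appLE_congr_hom ea _ _).hom r)).trans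
      (h1.trans (congr($(LineBundle.appLE_congr_hom eb _ _).hom r)).symm)
  have hdisj : ∀ q, P.left q ∉ (X ⊗ T).left.basicOpen d := fun q hq => by
    have : q ∈ P.left ⁻¹ᵁ (X ⊗ T).left.basicOpen d := hq
    rw [Scheme.preimage_basicOpen, Scheme.Hom.app_eq_appLE, hd, Scheme.basicOpen_zero] at this
    exact this
  -- the rest of the new open: off the old open it is cut out by `d`
  have key : ((fst X T).left ⁻¹ᵁ W' : Set (X ⊗ T).left) \ Set.range P.left.base =
      (((fst X T).left ⁻¹ᵁ W : Set (X ⊗ T).left) \ Set.range P.left.base) ∩ (O : Set (X ⊗ T).left) ∪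
        ((X ⊗ T).left.basicOpen d : Set (X ⊗ T).left) := by
    ext p
    constructor
    · rintro ⟨hp, hpr⟩
      by_cases hpW : p ∈ (fst X T).left ⁻¹ᵁ W
      · exact Or.inl ⟨⟨hpW, hpr⟩, hp⟩
      refine Or.inr ?_
      have hnu : p ∉ (X ⊗ T).left.basicOpen u := by
        rw [Scheme.basicOpen_appLE]
        intro h
        have h2 : (fst X T).left p ∈ X.left.basicOpen r := h.2
        rw [hrb] at h2
        exact hpW h2.2
      have hnu' : ¬ IsUnit ((X ⊗ T).left.presheaf.germ O p hp u) := fun h =>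
        hnu ((Scheme.mem_basicOpen _ _ p hp).2 h)
      show p ∈ (X ⊗ T).left.basicOpen d
      rw [Scheme.mem_basicOpen _ _ p hp, map_sub]
      have hcu' : IsUnit ((X ⊗ T).left.presheaf.germ O p hp ((snd X T).left.appLE ⊤ O hOs c)) :=
        (hcu.map _).map _
      by_contra hns
      refine hnu' ?_
      by_contra hnu''
      have := IsLocalRing.nonunits_add hnu'' (show -(((X ⊗ T).left.presheaf.germ O p hp u) -
        ((X ⊗ T).left.presheaf.germ O p hp ((snd X T).left.appLE ⊤ O hOs c))) ∈ nonunits _ from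
        fun h => hns (IsUnit.neg_iff _ |>.1 h))
      exact this (by simpa using hcu')
    · rintro (⟨⟨-, hpr⟩, hp⟩ | hp)
      · exact ⟨hp, hpr⟩
      · exact ⟨(X ⊗ T).left.basicOpen_le d hp, fun ⟨q, hq⟩ => hdisj q (hq ▸ hp)⟩
  rw [key]
  exact (hcl.inter O.isOpen).union (TopologicalSpace.Opens.isOpen _)

/-- the orbit map after a change of the test point -/
theorem isPullback_psi_comp {T T' : Over (Spec (CommRingCat.of k))} (h : T' ⟶ T) (g : T ⟶ X) :
    IsPullback (G ◁ h).left (GIT.psi a (h ≫ g)).left (GIT.psi a g).left (X ◁ h).left := by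
  refine IsPullback.of_bot ?_ ?_ (Quot.isPullback_whiskerLeft_left X h)
  · rw [← Over.comp_left, ← Over.comp_left, GIT.psi, GIT.psi, lift_snd, lift_snd]
    exact Quot.isPullback_whiskerLeft_left G h
  · rw [← Over.comp_left, ← Over.comp_left]
    refine congrArg CommaMorphism.left ?_
    apply CartesianMonoidalCategory.hom_ext
    · simp [GIT.psi]
    · simp [GIT.psi]

/-- closedness of orbits descends along a change of the test field -/
theorem isClosed_of_extension {Ω Ω' : Type u} [Field Ω] [Field Ω'] {T T' : Over (Spec (CommRingCat.of k))}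
    (eT : T.left ≅ Spec (CommRingCat.of Ω)) (eT' : T'.left ≅ Spec (CommRingCat.of Ω')) (h : T' ⟶ T) (g : T ⟶ X)
    (U : X.left.Opens)
    (hcl : IsOpen (((fst X T').left ⁻¹ᵁ U : Set (X ⊗ T').left) \ Set.range (GIT.psi a (h ≫ g)).left.base)) :
    IsOpen (((fst X T).left ⁻¹ᵁ U : Set (X ⊗ T).left) \ Set.range (GIT.psi a g).left.base) := by
  haveI : IsAffine T.left := .of_isIso eT.hom
  haveI : IsAffine T'.left := .of_isIso eT'.hom
  haveI : Flat h.left := by
    haveI : Flat (h.left ≫ eT.hom) := inferInstance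
    rw [show h.left = (h.left ≫ eT.hom) ≫ eT.inv by simp]
    infer_instance
  haveI : Surjective h.left := by
    refine ⟨fun t => ⟨eT'.inv (IsLocalRing.closedPoint Ω'), ?_⟩⟩
    haveI : Subsingleton T.left := eT.hom.homeomorph.injective.subsingleton (β := PrimeSpectrum Ω)
    exact Subsingleton.elim _ _
  have hp := (Quot.isPullback_whiskerLeft_left X h).flip
  haveI : Flat (X ◁ h).left := MorphismProperty.of_isPullback (P := @Flat) hp inferInstance
  haveI : Surjective (X ◁ h).left := MorphismProperty.of_isPullback (P := @Surjective) hp inferInstance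
  haveI : QuasiCompact (X ◁ h).left := MorphismProperty.of_isPullback (P := @QuasiCompact) hp inferInstance
  refine (Flat.isQuotientMap_of_surjective (X ◁ h).left).isOpen_preimage.1 ?_
  convert hcl using 1
  have e : (X ◁ h).left.base ⁻¹' ((fst X T).left ⁻¹ᵁ U : Set (X ⊗ T).left) = ((fst X T').left ⁻¹ᵁ U : Set (X ⊗ T').left) := by
    ext p
    show ((X ◁ h) ≫ fst X T).left p ∈ U ↔ (fst X T').left p ∈ U
    rw [whiskerLeft_fst]
  have e' : (X ◁ h).left.base ⁻¹' Set.range (GIT.psi a g).left.base = Set.range (GIT.psi a (h ≫ g)).left.base := by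
    ext p
    constructor
    · rintro ⟨q, hq⟩
      obtain ⟨q', -, hq'⟩ := Scheme.exists_preimage_of_isPullback (isPullback_psi_comp h g) q p hq
      exact ⟨q', hq'⟩
    · rintro ⟨q', rfl⟩
      exact ⟨(G ◁ h).left q', by
        rw [← Scheme.Hom.comp_apply, ← Scheme.Hom.comp_apply, (isPullback_psi_comp h g).w]⟩
  rw [Set.preimage_sdiff, e, e']

section Section

variable {T : Over (Spec (CommRingCat.of k))} [IsSeparated T.hom] {a' : AlgGrp.Action G (X ⊗ T)}
  (ha' : a'.act ≫ fst X T = (G ◁ fst X T) ≫ a.act) (ha'' : a'.act ≫ snd X T = snd G (X ⊗ T) ≫ snd X T)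
  {T' : Over (Spec (CommRingCat.of k))} (f : T' ⟶ X ⊗ T)

/-- the section over a test point of the extended base -/
def sec : X ⊗ T' ⟶ (X ⊗ T) ⊗ T' := lift (lift (fst X T') (snd X T' ≫ f ≫ snd X T)) (snd X T')

include ha' ha'' in
theorem psi_sec : GIT.psi a' f = GIT.psi a (f ≫ fst X T) ≫ sec f := by
  apply CartesianMonoidalCategory.hom_ext
  · apply CartesianMonoidalCategory.hom_ext
    · simp only [GIT.psi, sec, Category.assoc, lift_fst_assoc, lift_fst, lift_snd_assoc]
      rw [ha', ← MonoidalCategory.whiskerLeft_comp_assoc]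
    · simp only [GIT.psi, sec, Category.assoc, lift_fst_assoc, lift_fst, lift_snd, lift_snd_assoc]
      rw [ha'', whiskerLeft_snd_assoc]
  · simp [GIT.psi, sec]

theorem sec_fst : sec f ≫ fst (X ⊗ T) T' ≫ fst X T = fst X T' := by simp [sec]

theorem isClosedImmersion_sec : IsClosedImmersion (sec f).left := by
  have h1 : sec f ≫ (fst X T ▷ T') = 𝟙 _ := by
    apply CartesianMonoidalCategory.hom_ext <;> simp [sec]
  haveI : IsSeparated (fst X T).left := MorphismProperty.pullback_fst (P := @IsSeparated) _ _ inferInstance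
  haveI : IsSeparated (fst X T ▷ T').left := MorphismProperty.of_isPullback (P := @IsSeparated)
    (Quot.isPullback_whiskerRight_left T' (fst X T)).flip inferInstance
  haveI : IsClosedImmersion ((sec f).left ≫ (fst X T ▷ T').left) := by
    rw [← Over.comp_left, h1]
    infer_instance
  exact IsClosedImmersion.of_comp (sec f).left (fst X T ▷ T').left

include ha' ha'' in
/-- closed orbits over the ground field give closed orbits over the extension -/
theorem isClosed_sec (U : X.left.Opens)
    (hcl : IsOpen (((fst X T').left ⁻¹ᵁ U : Set (X ⊗ T').left) \ Set.range (GIT.psi a (f ≫ fst X T)).left.base)) :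
    IsOpen (((fst (X ⊗ T) T').left ⁻¹ᵁ ((fst X T).left ⁻¹ᵁ U) : Set ((X ⊗ T) ⊗ T').left) \
      Set.range (GIT.psi a' f).left.base) := by
  haveI := isClosedImmersion_sec f
  let R := Set.range (GIT.psi a (f ≫ fst X T)).left.base
  let O' := (fst (X ⊗ T) T').left ⁻¹ᵁ ((fst X T).left ⁻¹ᵁ U)
  have hmem : ∀ p, (sec f).left p ∈ O' ↔ p ∈ (fst X T').left ⁻¹ᵁ U := fun p => by
    show (sec f ≫ fst (X ⊗ T) T' ≫ fst X T).left p ∈ U ↔ _
    rw [sec_fst]
    rfl
  have : (O' : Set _) \ Set.range (GIT.psi a' f).left.base = (O' : Set _) \ (sec f).left.base '' closure R := by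
    rw [psi_sec ha' ha'', Over.comp_left, Scheme.Hom.comp_base, TopCat.coe_comp, Set.range_comp]
    refine Set.Subset.antisymm ?_ (Set.sdiff_subset_sdiff_right (Set.image_mono subset_closure))
    rintro p ⟨hp, hpr⟩
    refine ⟨hp, fun ⟨z, hz, e⟩ => ?_⟩
    subst e
    by_cases hzR : z ∈ R
    · exact hpr ⟨z, hzR, rfl⟩
    obtain ⟨w, hw, hwR⟩ := mem_closure_iff.1 hz _ hcl ⟨(hmem z).1 hp, hzR⟩
    exact hw.2 hwR
  rw [this]
  exact O'.isOpen.sdiff ((sec f).left.isClosedEmbedding.isClosedMap _ isClosed_closure)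

include ha' ha'' in
/-- closed orbits over the extension give closed orbits over the ground field -/
theorem isClosed_unsec (U : X.left.Opens)
    (hcl : IsOpen (((fst (X ⊗ T) T').left ⁻¹ᵁ ((fst X T).left ⁻¹ᵁ U) : Set ((X ⊗ T) ⊗ T').left) \
      Set.range (GIT.psi a' f).left.base)) :
    IsOpen (((fst X T').left ⁻¹ᵁ U : Set (X ⊗ T').left) \ Set.range (GIT.psi a (f ≫ fst X T)).left.base) := by
  haveI := isClosedImmersion_sec f
  have := hcl.preimage (sec f).left.continuous
  convert this using 1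
  rw [Set.preimage_sdiff, psi_sec ha' ha'', Over.comp_left, Scheme.Hom.comp_base, TopCat.coe_comp,
    Set.range_comp, Set.preimage_image_eq _ (sec f).left.isClosedEmbedding.injective]
  congr 1
  ext p
  show _ ↔ (sec f ≫ fst (X ⊗ T) T' ≫ fst X T).left p ∈ U
  rw [sec_fst]
  rfl

end Section

end Groth.Agent.GIT36.BCField
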