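import Groth.Agent.GIT36.BCField.Descend
import Groth.Agent.GIT36.BCField.Orbit

/-!
Semistable and stable loci after an extension of the ground field.
-/

set_option autoImplicit false
set_option backward.isDefEq.respectTransparency.types false
set_option linter.style.haveILetI false
set_option linter.unusedSectionVars false
set_option maxHeartbeats 1000000

universe u

open CategoryTheory CategoryTheory.Limits MonoidalCategory CartesianMonoidalCategory MonObj GrpObj AlgebraicGeometry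
open scoped TensorProduct
open Groth.Agent.GIT36.Sections Groth.Agent.GIT36.Proj Groth.Agent.GIT36.Mu Groth.Agent.GIT36.FinAction

noncomputable section

namespace Groth.Agent.GIT36.BCField

variable {k : Type u} [Field k]

attribute [local instance] gU

variable {G X : Over (Spec (CommRingCat.of k))} [GrpObj G] {a : AlgGrp.Action G X} {B : GLinSh.LinBun G a}
  {T : Over (Spec (CommRingCat.of k))} [IsAffine T.left] {a' : AlgGrp.Action G (X ⊗ T)}
  (ha' : a'.act ≫ fst X T = (G ◁ fst X T) ≫ a.act) (ha'' : a'.act ≫ snd X T = snd G (X ⊗ T) ≫ snd X T)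
  {B' : GLinSh.LinBun G a'} {q : B'.V ⟶ B.V} (hq : B'.π ≫ fst X T = q ≫ B.π)
  (hlift : B'.lift.act ≫ q = (G ◁ q) ≫ B.lift.act)
  (hle : ∀ U : X.left.Opens, B'.π.left ⁻¹ᵁ ((fst X T).left ⁻¹ᵁ U) ≤ q.left ⁻¹ᵁ (B.π.left ⁻¹ᵁ U))
  (hchart : ∀ (U : X.left.Opens) (y : Γ(B.V.left, B.π.left ⁻¹ᵁ U)), y ∈ B.atlas.chart U →
    q.left.appLE (B.π.left ⁻¹ᵁ U) (B'.π.left ⁻¹ᵁ ((fst X T).left ⁻¹ᵁ U)) (hle U) y ∈
      B'.atlas.chart ((fst X T).left ⁻¹ᵁ U))

include hq hlift hle hchart in
/-- sections with affine loci pull back -/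
theorem exists_pullback {n : ℕ} {F : Γ(B.V.left, ⊤)} (hF : B.IsInvSection n F) {U : X.left.Opens}
    (hU : (U : Set X.left) = GLinSh.nonvanishing B.π F) (hUa : IsAffineOpen U) :
    ∃ F', B'.IsInvSection n F' ∧
      (((fst X T).left ⁻¹ᵁ U : (X ⊗ T).left.Opens) : Set (X ⊗ T).left) = GLinSh.nonvanishing B'.π F' ∧
      IsAffineOpen ((fst X T).left ⁻¹ᵁ U) := by
  haveI := isAffineHom_fst (X := X) (T := T)
  obtain ⟨h1, h2⟩ := inv_restrict (fst X T) hq hle hchart hlift hF
  refine ⟨_, h1, ?_, hUa.preimage _⟩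
  rw [h2, ← hU]
  rfl

variable [CharZero k] [LocallyOfFiniteType G.hom] [QuasiCompact G.hom] [LocallyOfFiniteType X.hom]
  [QuasiCompact X.hom] [_root_.IsReduced Γ(T.left, ⊤)]

include ha'' hq hlift hle hchart in
/-- semistable points over the extension lie over semistable points -/
theorem exists_descend {n : ℕ} {f : Γ(B'.V.left, ⊤)} (hn : 1 ≤ n) (hf : B'.IsInvSection n f)
    {U' : (X ⊗ T).left.Opens} (hU' : (U' : Set (X ⊗ T).left) = GLinSh.nonvanishing B'.π f) (hUa : IsAffineOpen U')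
    {x' : (X ⊗ T).left} (hx' : x' ∈ U') :
    ∃ (e : Γ(B.V.left, ⊤)) (U : X.left.Opens), B.IsInvSection n e ∧
      (U : Set X.left) = GLinSh.nonvanishing B.π e ∧ IsAffineOpen U ∧ (fst X T).left x' ∈ U := by
  haveI := B.atlas.affine
  haveI := B'.atlas.affine
  haveI := isIso_cmp hq hle hchart
  haveI : CompactSpace X.left := QuasiCompact.compactSpace_of_compactSpace X.hom
  haveI := quasiCompact_total B
  haveI : CompactSpace B.V.left := QuasiCompact.compactSpace_of_compactSpace B.V.hom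
  haveI : IsLocallyNoetherian X.left := LocallyOfFiniteType.isLocallyNoetherian X.hom
  haveI := quasiSeparated_total B
  haveI : QuasiSeparatedSpace B.V.left := quasiSeparatedSpace_of_quasiSeparated B.V.hom
  let b := Module.Free.chooseBasis k Γ(T.left, ⊤)
  obtain ⟨z, hz, hinv⟩ := exists_coords ha'' hq hlift hle hchart b hf
  let c := cmp B' q
  let D := B'.V.left.basicOpen f
  have hDle : D ≤ B'.π.left ⁻¹ᵁ U' := fun v hv => by
    show B'.π.left v ∈ U'
    rw [← SetLike.mem_coe, hU']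
    exact ⟨v, hv, rfl⟩
  have hDa : IsAffineOpen D := by
    have h := (hUa.preimage B'.π.left).basicOpen (rs le_top f)
    rwa [rs, Scheme.basicOpen_res, inf_eq_right.2 hDle] at h
  have hpre : c.left ⁻¹ᵁ (B.V ⊗ T).left.basicOpen (β B.V T ⊤ z) = D := by
    rw [Scheme.preimage_basicOpen]
    refine (congrArg B'.V.left.basicOpen ?_).trans rfl
    rw [← hz, pullU_apply, Scheme.Hom.app_eq_appLE]
    rfl
  have hza : IsAffineOpen ((B.V ⊗ T).left.basicOpen (β B.V T ⊤ z)) := by
    haveI : IsIso c.left := inferInstanceAs (IsIso ((Over.forget _).map c))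
    have h := hDa.preimage_of_isIso (CategoryTheory.inv c.left)
    rwa [← hpre, ← Scheme.Hom.comp_preimage, IsIso.inv_hom_id, Scheme.Hom.id_preimage] at h
  obtain ⟨v', hv', hπ⟩ := hU'.le hx'
  obtain ⟨l, hl⟩ := exists_co_of_mem b z (p := c.left v') (hpre.ge hv')
  have hl' : q.left v' ∈ B.V.left.basicOpen (co b z l) := by
    rw [← cmp_fst (B' := B') (q := q)]
    exact hl
  have hopen := Sections.isOpen_nonvanishing (hinv l)
  refine ⟨co b z l, ⟨_, hopen⟩, hinv l, rfl, ?_, ?_⟩
  · exact isAffineOpen_of_mem_cert (Sections.atlasB B)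
      (fun U U' y y' hy hy' => by
        obtain ⟨c, -, hc⟩ := B.atlas.linear U U' y y' hy hy'
        exact ⟨c, hc⟩) (hinv l).1 (co_mem_radical b (Sections.atlasB B) z hza l) rfl
  · refine ⟨q.left v', hl', ?_⟩
    show (q ≫ B.π).left v' = (fst X T).left x'
    rw [← hq, Over.comp_left, Scheme.Hom.comp_apply]
    exact congrArg _ hπ

include ha'' hq hlift hle hchart in
theorem ssLocus_eq : B'.ssLocus = (fst X T).left.base ⁻¹' B.ssLocus := by
  ext x'
  constructor
  · rintro ⟨n, f, hn, hf, hxf, U', hU', hUa⟩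
    obtain ⟨e, U, he, hU, hUe, hxU⟩ := exists_descend ha'' hq hlift hle hchart hn hf hU' hUa (hU'.ge hxf)
    exact ⟨n, e, hn, he, hU.le hxU, U, hU, hUe⟩
  · rintro ⟨n, f, hn, hf, hxf, U, hU, hUa⟩
    obtain ⟨F', hF', hU', hUa'⟩ := exists_pullback hq hlift hle hchart hf hU hUa
    exact ⟨n, F', hn, hF', hU'.le (hU.ge hxf : (fst X T).left x' ∈ U), _, hU', hUa'⟩

include ha' ha'' hq hlift hle hchart in
theorem isStablePt_pullback {x' : (X ⊗ T).left} (hx : B.IsStablePt ((fst X T).left x')) : B'.IsStablePt x' := by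
  obtain ⟨n, F, hn, hF, hxF, U, hU, hUa, hcl⟩ := hx
  obtain ⟨F', hF', hU', hUa'⟩ := exists_pullback hq hlift hle hchart hF hU hUa
  refine ⟨n, F', hn, hF', hU'.le (hU.ge hxF : (fst X T).left x' ∈ U), _, hU', hUa', ?_⟩
  intro Ω _ _ T' eT f hf
  refine (isClosed_in_iff _ _).2 (isClosed_sec ha' ha'' f U ((isClosed_in_iff _ _).1 (hcl Ω T' eT _ ?_)))
  rintro _ ⟨t, rfl⟩
  exact hf ⟨t, rfl⟩

include ha' ha'' hq hlift hle hchart in
theorem isStablePt_descend (hG : Red.IsReductive G) [Surjective (fst X T).left] [UniversallyOpen (fst X T).left]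
    {x' : (X ⊗ T).left} (hx : B'.IsStablePt x') : B.IsStablePt ((fst X T).left x') := by
  haveI := hG.1
  haveI := hG.2.1
  haveI : IsAffine G.left := isAffine_of_isAffineHom G.hom
  haveI := B.atlas.affine
  let p := fst X T
  obtain ⟨n, f, hn, hf, hxf, U', hU', hUa', hcl'⟩ := hx
  obtain ⟨e, U, he, hU, hUa, hxU⟩ := exists_descend ha'' hq hlift hle hchart hn hf hU' hUa' (hU'.ge hxf)
  obtain ⟨E', hE', hpU, hpUa⟩ := exists_pullback hq hlift hle hchart he hU hUa
  let U₂ : (X ⊗ T).left.Opens := U' ⊓ p.left ⁻¹ᵁ U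
  let O : X.left.Opens := ⟨p.left.base '' U₂, p.left.isOpenMap _ U₂.isOpen⟩
  have hxO : p.left x' ∈ O := ⟨x', ⟨hU'.ge hxf, hxU⟩, rfl⟩
  have hOU : O ≤ U := by
    rintro _ ⟨y', hy', rfl⟩
    exact hy'.2
  have hinv := Sections.preimage_invariant he hU
  have hinv' := Sections.preimage_invariant hf hU'
  -- the good points form an invariant open
  have hOinv : a.act.left.base '' ((snd G X).left.base ⁻¹' (O : Set X.left)) ⊆ O := by
    rintro _ ⟨r, ⟨y', hy', hyr⟩, rfl⟩
    obtain ⟨r', hr1, hr2⟩ := Scheme.exists_preimage_of_isPullback (Quot.isPullback_whiskerLeft_left G p) r y' hyr.symm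
    have hsnd : (snd G (X ⊗ T)).left r' ∈ U' := by rw [hr2]; exact hy'.1
    refine ⟨a'.act.left r', ⟨?_, ?_⟩, ?_⟩
    · have : r' ∈ (snd G (X ⊗ T)).left ⁻¹ᵁ U' := hsnd
      rw [← hinv'] at this
      exact this
    · show (a'.act ≫ p).left r' ∈ U
      rw [ha', Over.comp_left, Scheme.Hom.comp_apply, hr1]
      have : r ∈ (snd G X).left ⁻¹ᵁ U := by
        show (snd G X).left r ∈ U
        rw [← hyr]
        exact hy'.2
      rw [← hinv] at this
      exact this
    · show (a'.act ≫ p).left r' = a.act.left r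
      rw [ha', Over.comp_left, Scheme.Hom.comp_apply, hr1]
  -- their orbits are closed in the affine locus
  have key : ∀ (Ω : Type u) [Field Ω] [IsAlgClosed Ω] (T₁ : Over (Spec (CommRingCat.of k)))
      (_ : T₁.left ≅ Spec (CommRingCat.of Ω)) (g : T₁ ⟶ X), Set.range g.left.base ⊆ (O : Set X.left) →
        IsOpen (((fst X T₁).left ⁻¹ᵁ U : Set (X ⊗ T₁).left) \ Set.range (GIT.psi a g).left.base) := by
    intro Ω _ _ T₁ eT₁ g hg
    let t₀ : T₁.left := eT₁.inv (IsLocalRing.closedPoint Ω)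
    obtain ⟨y', hy', hy⟩ := hg ⟨t₀, rfl⟩
    obtain ⟨w, hw₁, hw₂⟩ := Scheme.Pullback.exists_preimage_pullback (f := g.left) (g := p.left) t₀ y' hy.symm
    let Ω' := AlgebraicClosure ((pullback g.left p.left).residueField w)
    let s : Spec (CommRingCat.of Ω') ⟶ pullback g.left p.left :=
      Spec.map (CommRingCat.ofHom (algebraMap ((pullback g.left p.left).residueField w) Ω')) ≫
        (pullback g.left p.left).fromSpecResidueField w
    let T₂ : Over (Spec (CommRingCat.of k)) := Over.mk ((s ≫ pullback.fst g.left p.left) ≫ T₁.hom)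
    let h : T₂ ⟶ T₁ := Over.homMk (s ≫ pullback.fst g.left p.left) rfl
    let g' : T₂ ⟶ X ⊗ T := Over.homMk (s ≫ pullback.snd g.left p.left) (by
      show (s ≫ pullback.snd g.left p.left) ≫ (X ⊗ T).hom = (s ≫ pullback.fst g.left p.left) ≫ T₁.hom
      rw [← Over.w p, ← Over.w g]
      simp only [s, Category.assoc]
      rw [pullback.condition_assoc])
    have hg' : g' ≫ p = h ≫ g := Over.OverMorphism.ext (by
      show (s ≫ pullback.snd g.left p.left) ≫ p.left = (s ≫ pullback.fst g.left p.left) ≫ g.left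
      simp only [s, Category.assoc]
      rw [pullback.condition])
    have hrange : ∀ t, g'.left t = y' := fun t => by
      show (s ≫ pullback.snd g.left p.left) t = y'
      rw [Scheme.Hom.comp_apply, show s t = w from Scheme.fromSpecResidueField_apply w _]
      exact hw₂
    have hy'U : Set.range g'.left.base ⊆ (U' : Set (X ⊗ T).left) ∩ (p.left ⁻¹ᵁ U : Set (X ⊗ T).left) := by
      rintro _ ⟨t, rfl⟩
      exact (hrange t).symm ▸ hy'
    have h1 := (isClosed_in_iff _ _).1 (hcl' Ω' T₂ (Iso.refl _) g' fun z hz => (hy'U hz).1)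
    have h2 := isClosed_in_other B' hn hf hU' hUa' hn hE' hpU hpUa (Iso.refl (Spec (CommRingCat.of Ω')))
      g' hy'U h1
    have h3 := isClosed_unsec ha' ha'' g' U h2
    rw [show g' ≫ fst X T = h ≫ g from hg'] at h3
    exact isClosed_of_extension eT₁ (Iso.refl (Spec (CommRingCat.of Ω'))) h g U h3
  -- separate the bad points by an invariant function
  obtain ⟨A, _, _, ψ, hψ, -, hLR⟩ := AffQuot.exists_coord_linRed G hG
  haveI := hψ
  haveI : IsAffine (openObj U).left := hUa
  haveI : LocallyOfFiniteType (openObj U).hom := inferInstanceAs (LocallyOfFiniteType (U.ι ≫ X.hom))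
  let aU := resAct a U hinv
  let x₀ : (openObj U).left := ⟨p.left x', hxU⟩
  let C : Set (openObj U).left := (U.ι.base ⁻¹' (O : Set X.left))ᶜ
  have hCc : IsClosed C := (O.isOpen.preimage U.ι.continuous).isClosed_compl
  have hact : ∀ r : (G ⊗ openObj U).left, U.ι (aU.act.left r) = a.act.left ((G ◁ openIncl U).left r) := fun r => by
    show ((aU.act ≫ openIncl U).left) r = _
    rw [resAct_comp]
    rfl
  have hCi : aU.act.left.base '' ((snd G (openObj U)).left.base ⁻¹' C) ⊆ C := by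
    rintro _ ⟨r, hr, rfl⟩ h
    refine hr ?_
    have h' : a.act.left ((G ◁ openIncl U).left r) ∈ O := hact r ▸ h
    have := Regular.mem_of_act_mem hOinv _ h'
    show U.ι ((snd G (openObj U)).left r) ∈ O
    rw [← Scheme.Hom.comp_apply] at this
    show ((snd G (openObj U) ≫ openIncl U).left) r ∈ O
    rw [← whiskerLeft_snd]
    exact this
  obtain ⟨Y, φ, hYa, hQ, -, -⟩ := AffQuot.exists_affQ ψ hLR (openObj U) aU
  haveI := hYa
  obtain ⟨Ω, _, _, T₁, eT₁, g, hg⟩ := Regular.exists_geom_pt (X := openObj U) x₀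
  have hgX : Set.range (g ≫ openIncl U).left.base ⊆ (O : Set X.left) := by
    rw [Over.comp_left, Scheme.Hom.comp_base, TopCat.coe_comp, Set.range_comp, hg, Set.image_singleton,
      Set.singleton_subset_iff]
    exact hxO
  have hxφ := Regular.notMem_image ψ hLR hQ hCc hCi (fun h => h hxO) eT₁ g hg
    (Regular.isClosed_range_res hinv g ((isClosed_in_iff _ _).2 (key Ω T₁ eT₁ _ hgX)))
  have hcl'' : IsClosed (φ.left.base '' C) := by
    have h := (hQ.images ψ hLR (fun _ : PUnit.{u + 1} => C) (fun _ => ⟨hCc, hCi⟩)).1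
    rwa [Set.iInter_const] at h
  obtain ⟨h₀, hle₀, hmem⟩ := (isAffineOpen_top Y.left).exists_basicOpen_le
    (V := ⟨_, hcl''.isOpen_compl⟩) ⟨φ.left x₀, hxφ⟩ trivial
  let s₀ := φ.left.appTop h₀
  let r := U.topIso.hom s₀
  have hr := Regular.inv_topIso' U hinv s₀ (AffQuot.inv_appTop hQ.inv h₀)
  have hrb : ∀ y : (openObj U).left, U.ι y ∈ X.left.basicOpen r ↔ φ.left y ∈ Y.left.basicOpen h₀ := by
    intro y
    have e : U.ι ⁻¹ᵁ X.left.basicOpen r = φ.left ⁻¹ᵁ Y.left.basicOpen h₀ := by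
      rw [Scheme.Hom.preimage_basicOpen, Scheme.Hom.preimage_basicOpen]
      have e1 : U.ι.app U r = U.toScheme.presheaf.map (homOfLE le_top).op s₀ := by
        show (U.topIso.hom ≫ U.ι.app U) s₀ = _
        have h2 : U.topIso.hom ≫ U.ι.app U = U.toScheme.presheaf.map (homOfLE le_top).op := by
          rw [Scheme.Opens.topIso_hom, Scheme.Opens.ι_app]
          exact (X.left.presheaf.map_comp _ _).symm
        exact congr($h2 s₀)
      rw [e1, Scheme.basicOpen_res, inf_eq_right.2 (le_top.trans_eq U.ι_preimage_self.symm)]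
      rfl
    exact SetLike.ext_iff.1 e y
  haveI : CompactSpace X.left := QuasiCompact.compactSpace_of_compactSpace X.hom
  haveI := quasiCompact_total B
  haveI : CompactSpace B.V.left := QuasiCompact.compactSpace_of_compactSpace B.V.hom
  haveI : IsLocallyNoetherian X.left := LocallyOfFiniteType.isLocallyNoetherian X.hom
  haveI := quasiSeparated_total B
  haveI : QuasiSeparatedSpace B.V.left := quasiSeparatedSpace_of_quasiSeparated B.V.hom
  haveI : CompactSpace (G ⊗ B.V).left := by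
    haveI : QuasiCompact (G ⊗ B.V).hom := by
      show QuasiCompact (pullback.fst G.hom B.V.hom ≫ G.hom)
      infer_instance
    exact QuasiCompact.compactSpace_of_compactSpace (G ⊗ B.V).hom
  obtain ⟨M, E, hM, hE, hEnv⟩ := Sections.exists_invSection_extension B he hU r hinv hr
  refine ⟨M * n, E, Nat.mul_pos hM hn, hE, ?_, X.left.basicOpen r, hEnv.symm, hUa.basicOpen r, ?_⟩
  · rw [hEnv]
    exact (hrb x₀).2 hmem
  · intro Ω' _ _ T₂ eT₂ g₂ hg₂
    have hrO : X.left.basicOpen r ≤ O := fun y hy => by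
      by_contra hyO
      exact hle₀ ((hrb ⟨y, X.left.basicOpen_le r hy⟩).1 hy) ⟨_, hyO, rfl⟩
    refine (isClosed_in_iff _ _).2 ?_
    have h1 := key Ω' T₂ eT₂ g₂ fun y hy => hrO (hg₂ hy)
    have h2 := h1.inter ((fst X T₂).left ⁻¹ᵁ X.left.basicOpen r).isOpen
    convert h2 using 1
    ext z
    exact ⟨fun h => ⟨⟨X.left.basicOpen_le r h.1, h.2⟩, h.1⟩, fun h => ⟨h.2, h.1.2⟩⟩

end Groth.Agent.GIT36.BCField
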